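import Groth.Agent.Lib.Helper3.DescSh.FpqcRed
import Groth.Agent.Lib.Helper3.Desc.IdealDesc
import Groth.Agent.Lib.Helper3.DescOpen
import Groth.Agent.Lib.Helper5.HensCouple.F
import Mathlib

/-!
# Descent data of closed immersions relative to an fpqc covering family are effective (helper3)
-/

set_option autoImplicit false
set_option backward.isDefEq.respectTransparency false
set_option backward.isDefEq.respectTransparency.types false

universe u

open CategoryTheory CategoryTheory.Limits AlgebraicGeometry Opposite

namespace Groth.Agent.H3.DescSh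

open _root_.Desc _root_.AlgSp Groth.Agent.H5.Desc Groth.Agent.H5.AlgSp

/-- Closed subschemes with the same ideal sheaf are isomorphic. -/
noncomputable def overIsoOfKerEq {X : Scheme.{u}} (A B : Over X) [IsClosedImmersion A.hom]
    [IsClosedImmersion B.hom] (h : A.hom.ker = B.hom.ker) : A ≅ B where
  hom := Over.homMk (IsClosedImmersion.lift B.hom A.hom h.ge) (IsClosedImmersion.lift_fac _ _ _)
  inv := Over.homMk (IsClosedImmersion.lift A.hom B.hom h.le) (IsClosedImmersion.lift_fac _ _ _)
  hom_inv_id := by
    apply Over.OverMorphism.ext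
    rw [← cancel_mono A.hom]
    simp
  inv_hom_id := by
    apply Over.OverMorphism.ext
    rw [← cancel_mono B.hom]
    simp

/-- Reindexing a finite disjoint union. -/
lemma prop_sigmaMap_fin_of_ulift (P : MorphismProperty Scheme.{u}) [P.RespectsIso] (m : ℕ)
    (hU : ∀ (Y V : ULift.{u} (Fin m) → Scheme.{u}) (q : ∀ k, Y k ⟶ V k), (∀ k, P (q k)) →
      P (Limits.Sigma.map q))
    (Y V : Fin m → Scheme.{u}) (q : ∀ j, Y j ⟶ V j) (hq : ∀ j, P (q j)) :
    P (Limits.Sigma.map q) := by
  let ε : ULift.{u} (Fin m) ≃ Fin m := Equiv.ulift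
  have key : Limits.Sigma.map q = (Sigma.reindex ε Y).inv ≫
      Limits.Sigma.map (fun k : ULift.{u} (Fin m) => q (ε k)) ≫ (Sigma.reindex ε V).hom := by
    rw [Iso.eq_inv_comp]
    apply Sigma.hom_ext
    intro j
    rw [Sigma.ι_reindex_hom_assoc, Sigma.ι_map, Sigma.ι_map_assoc]
    congr 1
    exact (Sigma.ι_reindex_hom ε V j).symm
  rw [key, P.cancel_left_of_respectsIso, P.cancel_right_of_respectsIso]
  exact hU _ _ _ (fun k => hq (ε k))

/-- Finite disjoint unions of closed immersions are closed immersions. -/
lemma isClosedImmersion_sigmaMap_fin (m : ℕ) (Y V : Fin m → Scheme.{u}) (q : ∀ j, Y j ⟶ V j)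
    (hq : ∀ j, IsClosedImmersion (q j)) : IsClosedImmersion (Limits.Sigma.map q) := by
  refine prop_sigmaMap_fin_of_ulift @IsClosedImmersion m ?_ Y V q hq
  intro Y' V' q' hq'
  have : ∀ k, IsClosedImmersion (q' k) := hq'
  exact Groth.Agent.H5.HensCouple.isClosedImmersion_sigmaMap V' Y' q'

/-- **Closed immersions descend along flat quasi-compact morphisms.** -/
theorem effective_of_isClosedImmersion {X S : Scheme.{u}} (p : X ⟶ S) [Flat p] [QuasiCompact p]
    (D : SchDD p) (hD : IsClosedImmersion D.obj.hom) :
    ∃ U : Over S, Nonempty ((toDD p).obj U ≅ D) := by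
  have := hD
  let J' : X.IdealSheafData := D.obj.hom.ker
  have hker : J'.subschemeι.ker = D.obj.hom.ker := Scheme.IdealSheafData.ker_subschemeι _
  let a : J'.subscheme ⟶ D.obj.left := IsClosedImmersion.lift D.obj.hom J'.subschemeι hker.ge
  have ha : a ≫ D.obj.hom = J'.subschemeι := IsClosedImmersion.lift_fac _ _ _
  let b : D.obj.left ⟶ J'.subscheme := IsClosedImmersion.lift J'.subschemeι D.obj.hom hker.le
  have hb : b ≫ J'.subschemeι = D.obj.hom := IsClosedImmersion.lift_fac _ _ _
  -- the descent condition
  have hle : J'.comap (pullback.snd p p) ≤ J'.comap (pullback.fst p p) := by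
    have hx : (pullback.fst (pullback.fst p p) J'.subschemeι ≫ pullback.fst p p) ≫ p =
        (pullback.fst (pullback.fst p p) J'.subschemeι ≫ pullback.snd p p) ≫ p := by
      rw [Category.assoc, Category.assoc, pullback.condition (f := p) (g := p)]
    let v₀ : Lifts D.obj (pullback.fst (pullback.fst p p) J'.subschemeι ≫ pullback.fst p p) :=
      ⟨pullback.snd (pullback.fst p p) J'.subschemeι ≫ a, by
        rw [Category.assoc, ha, ← pullback.condition]⟩
    have hv₁ : ((D.φ _ _ hx v₀).1 ≫ b) ≫ J'.subschemeι =
        pullback.fst (pullback.fst p p) J'.subschemeι ≫ pullback.snd p p := by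
      rw [Category.assoc, hb]
      exact (D.φ _ _ hx v₀).2
    have hl : pullback.lift (pullback.fst (pullback.fst p p) J'.subschemeι)
        ((D.φ _ _ hx v₀).1 ≫ b) hv₁.symm ≫ pullback.fst (pullback.snd p p) J'.subschemeι =
        pullback.fst (pullback.fst p p) J'.subschemeι := pullback.lift_fst _ _ _
    change (pullback.fst (pullback.snd p p) J'.subschemeι).ker ≤
      (pullback.fst (pullback.fst p p) J'.subschemeι).ker
    rw [← hl]
    exact Scheme.Hom.le_ker_comp _ _
  have hcm := Groth.Agent.H3.IdealDesc.comap_map_eq_of_le p J' hle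
  -- the descended closed subscheme
  let U : Over S := Over.mk (J'.map p).subschemeι
  have hcl : IsClosedImmersion ((toDD p).obj U).obj.hom := by
    change IsClosedImmersion (pullback.fst p (J'.map p).subschemeι)
    infer_instance
  have hkk : ((toDD p).obj U).obj.hom.ker = D.obj.hom.ker := hcm
  let e := overIsoOfKerEq ((toDD p).obj U).obj D.obj hkk
  -- iso of descent data
  have hm1 : ∀ i : PUnit.{u + 1},
      Mono (((toDDFam (fun _ : PUnit.{u + 1} => p)).obj U).obj i).hom := fun _ => by
    change Mono (pullback.fst p (J'.map p).subschemeι)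
    infer_instance
  have hm2 : ∀ i : PUnit.{u + 1}, Mono (((SchDDFam.ofSchDD.{u} p).obj D).obj i).hom := fun _ => by
    change Mono D.obj.hom
    infer_instance
  let E := Groth.Agent.H3.DescOpen.isoOfMono ((toDDFam (fun _ : PUnit.{u + 1} => p)).obj U)
    ((SchDDFam.ofSchDD.{u} p).obj D) hm1 hm2 (fun _ => e)
  exact ⟨U, ⟨(SchDDFam.toSchDD.{u} p).mapIso E⟩⟩

/-- **Descent data of closed immersions relative to an fpqc covering family are effective.** -/
theorem isEffective_of_isClosedImmersion {S : Scheme.{u}} {ι : Type u} {X : ι → Scheme.{u}}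
    (f : ∀ i, X i ⟶ S) (hf : Presieve.ofArrows X f ∈ Scheme.fpqcPrecoverage S)
    (D : SchDDFam f) (hD : ∀ i, IsClosedImmersion (D.obj i).hom) : D.IsEffective := by
  refine isEffective_of_fpqc_of_affine @IsClosedImmersion isClosedImmersion_sigmaMap_fin ?_ f hf D hD
  intro X' S' p hX' hS' hfl hsurj D' hD'
  have : IsAffine X' := hX'
  have : IsAffine S' := hS'
  have : Flat p := hfl
  have : QuasiCompact p := by
    have : IsAffineHom p := isAffineHom_of_isAffine p
    infer_instance
  exact effective_of_isClosedImmersion p D' hD'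

end Groth.Agent.H3.DescSh
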