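import Groth.Agent.Lib.Helper3.DescSh.PsiEff
import Groth.Agent.Lib.Helper3.AlgSpCov.YonCoprod
import Groth.Agent.Lib.Helper5.AlgSp.ZarLocalRep
import Groth.Agent.Lib.Helper5.AlgSp.AffineBase
import Mathlib

/-!
# Reduction of effectiveness of descent data along fpqc coverings to the affine case (helper3)

`isEffective_of_fpqc_of_affine`: let `P` be a property of morphisms of schemes stable under base
change and finite disjoint unions such that descent data with `P` relative to a flat surjective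
morphism of affine schemes are effective.  Then descent data with `P` relative to any fpqc covering
family are effective.
-/

set_option autoImplicit false
set_option backward.isDefEq.respectTransparency false
set_option backward.isDefEq.respectTransparency.types false

universe u

open CategoryTheory CategoryTheory.Limits AlgebraicGeometry Opposite

namespace Groth.Agent.H3.DescSh

open _root_.Desc _root_.AlgSp Groth.Agent.H5.Desc Groth.Agent.H5.AlgSp Groth.Agent.H3.AlgSpCov

/-- An fpqc covering family can be refined, over an affine scheme, by a finite flat jointly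
surjective family of affine schemes. -/
theorem exists_affine_refinement_of_fpqc {S : Scheme.{u}} {ι : Type u} {U : ι → Scheme.{u}}
    (u : ∀ i, U i ⟶ S) (hu : Presieve.ofArrows U u ∈ Scheme.fpqcPrecoverage S) {T₀ : Scheme.{u}}
    [IsAffine T₀] (t : T₀ ⟶ S) :
    ∃ (m : ℕ) (a : Fin m → ι) (W : Fin m → Scheme.{u}) (cW : ∀ k, W k ⟶ T₀)
      (rW : ∀ k, W k ⟶ U (a k)),
      (∀ k, IsAffine (W k)) ∧ (∀ k, Flat (cW k)) ∧ (∀ k, rW k ≫ u (a k) = cW k ≫ t) ∧
      (∀ z : T₀, ∃ k, z ∈ Set.range (cW k)) := by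
  let 𝒰 : Scheme.Cover.{u} Scheme.fpqcPrecoverage S := { I₀ := ι, X := U, f := u, mem₀ := hu }
  have hmem : 𝒰.presieve₀ ∈ Scheme.fpqcPrecoverage S := 𝒰.mem₀
  have hqc : QuasiCompactCover 𝒰.toPreZeroHypercover :=
    Scheme.presieve₀_mem_qcPrecoverage_iff.mp hmem.1
  have hfl : ∀ i, Flat (u i) := fun i => hmem.2.2 ⟨i⟩
  have hcpt : IsCompact ((⊤ : T₀.Opens) : Set T₀) := by
    rw [TopologicalSpace.Opens.coe_top]
    exact isCompact_univ
  obtain ⟨n, a, V, hV, hcov⟩ := QuasiCompactCover.exists_isAffineOpen_of_isCompact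
    (𝒰.toPreZeroHypercover.pullback₁ t) hcpt
  refine ⟨n, a, fun k => (V k).toScheme, fun k => (V k).ι ≫ pullback.fst t (u (a k)),
    fun k => (V k).ι ≫ pullback.snd t (u (a k)), fun k => hV k, fun k => ?_, fun k => ?_,
    fun z => ?_⟩
  · have := hfl (a k)
    infer_instance
  · rw [Category.assoc, Category.assoc, pullback.condition]
  · have hz : z ∈ ((⊤ : T₀.Opens) : Set T₀) := trivial
    rw [← hcov] at hz
    obtain ⟨k, w, hw, hwz⟩ := Set.mem_iUnion.mp hz
    refine ⟨k, ⟨w, hw⟩, ?_⟩
    rw [Scheme.Hom.comp_apply]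
    exact hwz

/-- Reindexing a finite disjoint union. -/
lemma prop_sigmaMap_ulift (P : MorphismProperty Scheme.{u}) [P.RespectsIso]
    (h2 : ∀ (m : ℕ) (Y V : Fin m → Scheme.{u}) (q : ∀ j, Y j ⟶ V j), (∀ j, P (q j)) →
      P (Limits.Sigma.map q))
    (m : ℕ) (Y V : ULift.{u} (Fin m) → Scheme.{u}) (q : ∀ k, Y k ⟶ V k) (hq : ∀ k, P (q k)) :
    P (Limits.Sigma.map q) := by
  let ε : Fin m ≃ ULift.{u} (Fin m) := Equiv.ulift.symm
  have key : Limits.Sigma.map q = (Sigma.reindex ε Y).inv ≫
      Limits.Sigma.map (fun j : Fin m => q (ε j)) ≫ (Sigma.reindex ε V).hom := by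
    rw [Iso.eq_inv_comp]
    apply Sigma.hom_ext
    intro j
    rw [Sigma.ι_reindex_hom_assoc, Sigma.ι_map, Sigma.ι_map_assoc]
    congr 1
    exact (Sigma.ι_reindex_hom ε V j).symm
  rw [key, P.cancel_left_of_respectsIso, P.cancel_right_of_respectsIso]
  exact h2 m _ _ _ (fun j => hq (ε j))

/-- A finite family of pullback squares with representable corners glues to a pullback square
over the disjoint union. -/
theorem exists_isPullback_sigma {S : Scheme.{u}} {ι : Type u} [Finite ι] (Wk Ek : ι → Over S)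
    (ek : ∀ k, Ek k ⟶ Wk k) {F G : Sp S} (f : F ⟶ G) (g : (yon S).obj (sigmaOver Wk) ⟶ G)
    (uk : ∀ k, (yon S).obj (Ek k) ⟶ F)
    (sqk : ∀ k, IsPullback (uk k) ((yon S).map (ek k)) f ((yon S).map (sigmaOverι Wk k) ≫ g)) :
    ∃ ũ : (yon S).obj (sigmaOver Ek) ⟶ F,
      IsPullback ũ ((yon S).map (sigmaOverDesc Ek (fun k => ek k ≫ sigmaOverι Wk k))) f g := by
  have sqP := IsPullback.of_hasPullback f g
  have hl : ∀ k, uk k ≫ f = ((yon S).map (ek k) ≫ (yon S).map (sigmaOverι Wk k)) ≫ g :=
    fun k => by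
      rw [Category.assoc]
      exact (sqk k).w
  let l : ∀ k, (yon S).obj (Ek k) ⟶ pullback f g := fun k => pullback.lift (uk k) _ (hl k)
  have hpb : ∀ k, IsPullback (l k) ((yon S).map (ek k)) (pullback.snd f g)
      ((yon S).map (sigmaOverι Wk k)) := by
    intro k
    refine IsPullback.of_right ?_ (pullback.lift_snd _ _ _) sqP
    rw [pullback.lift_fst]
    exact sqk k
  obtain ⟨hcX⟩ := cofan_isColimit_of_isPullback (fun k => (yon S).map (ek k))
    (Cofan.mk (pullback f g) l) (yonCofan Wk) (yonCofanIsColimit Wk) (pullback.snd f g) hpb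
  let γ : (yon S).obj (sigmaOver Ek) ≅ pullback f g :=
    (yonCofanIsColimit Ek).coconePointUniqueUpToIso hcX
  have hγ : ∀ k, (yon S).map (sigmaOverι Ek k) ≫ γ.hom = l k :=
    fun k => (yonCofanIsColimit Ek).comp_coconePointUniqueUpToIso_hom hcX ⟨k⟩
  have hsnd : γ.hom ≫ pullback.snd f g =
      (yon S).map (sigmaOverDesc Ek (fun k => ek k ≫ sigmaOverι Wk k)) := by
    apply Cofan.IsColimit.hom_ext (yonCofanIsColimit Ek)
    intro k
    change (yon S).map (sigmaOverι Ek k) ≫ _ = (yon S).map (sigmaOverι Ek k) ≫ _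
    rw [← Category.assoc, hγ, pullback.lift_snd, ← Functor.map_comp, ← Functor.map_comp,
      sigmaOverι_desc]
  refine ⟨γ.hom ≫ pullback.fst f g, ?_⟩
  refine IsPullback.of_iso sqP γ.symm (Iso.refl _) (Iso.refl _) (Iso.refl _) (by simp) ?_
    (by simp) (by simp)
  rw [Iso.refl_hom, Category.comp_id, Iso.symm_hom, ← hsnd, Iso.inv_hom_id_assoc]

/-- The unique morphism to the terminal sheaf. -/
noncomputable abbrev toPt {S : Scheme.{u}} (F : Sp S) : F ⟶ pt S := (ptIsTerminal S).from F

section main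

variable (P : MorphismProperty Scheme.{u}) [P.IsStableUnderBaseChange]
  (h2 : ∀ (m : ℕ) (Y V : Fin m → Scheme.{u}) (q : ∀ j, Y j ⟶ V j), (∀ j, P (q j)) →
    P (Limits.Sigma.map q))
  (h3 : ∀ (X S : Scheme.{u}) (p : X ⟶ S), IsAffine X → IsAffine S → Flat p → Surjective p →
    ∀ D : Desc.SchDD p, P D.obj.hom → ∃ U : Over S, Nonempty ((Desc.toDD p).obj U ≅ D))
  {ι : Type u} {S : Scheme.{u}} {U : ι → Scheme.{u}} (u : ∀ i, U i ⟶ S)
  (hu : Presieve.ofArrows U u ∈ Scheme.fpqcPrecoverage S) (D : Desc.SchDDFam u)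
  (hD : ∀ i, P (D.obj i).hom)

include h2 h3 hu hD in
/-- The base change of the sheaf of `D` to an affine scheme is representable. -/
theorem exists_rep_over_affine (T : Over S) [IsAffine T.left] :
    ∃ (Yh : Over S) (y : Yh ⟶ T) (fst : (yon S).obj Yh ⟶ FDSh D),
      IsPullback fst ((yon S).map y) (toPt (FDSh D)) ((yon S).map (toBase T)) := by
  have hPiso : P.RespectsIso := MorphismProperty.IsStableUnderBaseChange.respectsIso
  obtain ⟨m, a, W₀, cW, rW, hWaff, hflat, hcomp, hsurj⟩ :=
    exists_affine_refinement_of_fpqc u hu T.hom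
  -- objects over `S`
  let Wk : ULift.{u} (Fin m) → Over S := fun k => Over.mk (cW k.down ≫ T.hom)
  let ck : ∀ k, Wk k ⟶ T := fun k => Over.homMk (cW k.down) rfl
  let rk : ∀ k, Wk k ⟶ XO u (a k.down) := fun k => Over.homMk (rW k.down) (hcomp k.down)
  let Ek : ULift.{u} (Fin m) → Over S := fun k => pullback (dO D (a k.down)) (rk k)
  let ek : ∀ k, Ek k ⟶ Wk k := fun k => pullback.snd (dO D (a k.down)) (rk k)
  have hPek : ∀ k, P (ek k).left := fun k => by
    show P (pullback.snd (dO D (a k.down)) (rk k)).left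
    rw [left_pullback_snd_iff P]
    exact MorphismProperty.pullback_snd (P := P) _ _ (hD (a k.down))
  have sqk : ∀ k, IsPullback
      ((yon S).map (pullback.fst (dO D (a k.down)) (rk k)) ≫ kap D (a k.down))
      ((yon S).map (ek k)) (toPt (FDSh D))
      ((yon S).map (sigmaOverι Wk k) ≫ (yon S).map (toBase (sigmaOver Wk))) := by
    intro k
    have h := isPullback_of_hom D (a k.down) (rk k)
    have h2' : (yon S).map (sigmaOverι Wk k) ≫ (yon S).map (toBase (sigmaOver Wk)) =
        (yon S).map (toBase (Wk k)) := (ptIsTerminal S).hom_ext _ _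
    rw [h2']
    exact h
  obtain ⟨ũ, sqSg⟩ := exists_isPullback_sigma Wk Ek ek (toPt (FDSh D))
    ((yon S).map (toBase (sigmaOver Wk))) _ sqk
  -- the cover
  have hWk : ∀ k, IsAffine (Wk k).left := fun k => hWaff k.down
  have hprops := sigmaDesc_props (fun k => (Wk k).left) (fun k => (ck k).left)
    (fun k => hflat k.down) (fun z => by
      obtain ⟨k, hk⟩ := hsurj z
      exact ⟨⟨k⟩, hk⟩)
  have hcaff : IsAffine (sigmaOver Wk).left := hprops.1
  have hcsurj : Surjective (sigmaOverDesc Wk ck).left := hprops.2.1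
  have hcflat : Flat (sigmaOverDesc Wk ck).left := hprops.2.2
  have hcqc : QuasiCompact (sigmaOverDesc Wk ck).left := by
    have : IsAffineHom (sigmaOverDesc Wk ck).left := isAffineHom_of_isAffine _
    infer_instance
  -- `P` for the disjoint union
  have hPe : P (sigmaOverDesc Ek (fun k => ek k ≫ sigmaOverι Wk k)).left := by
    have h1 : (sigmaOverDesc Ek (fun k => ek k ≫ sigmaOverι Wk k)).left =
        Limits.Sigma.map (fun k => (ek k).left) := by
      change Sigma.desc (fun k => (ek k ≫ sigmaOverι Wk k).left) = _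
      apply Sigma.hom_ext
      intro k
      rw [Sigma.ι_desc, Sigma.ι_map, Over.comp_left, sigmaOverι_left]
    rw [h1]
    exact prop_sigmaMap_ulift P h2 m _ _ _ hPek
  -- relative to `T`
  have sqT0 := IsPullback.of_hasPullback (toPt (FDSh D)) ((yon S).map (toBase T))
  have hPt : IsFpqcSheaf (pullback (toPt (FDSh D)) ((yon S).map (toBase T))) :=
    isFpqcSheaf_of_isPullback sqT0 (isFpqcSheaf_FDSh D) (isFpqcSheaf_yon _) (isFpqcSheaf_yon T)
  have hcT : (yon S).map (sigmaOverDesc Wk ck) ≫ (yon S).map (toBase T) =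
      (yon S).map (toBase (sigmaOver Wk)) := (ptIsTerminal S).hom_ext _ _
  have hw : ũ ≫ toPt (FDSh D) =
      ((yon S).map (sigmaOverDesc Ek (fun k => ek k ≫ sigmaOverι Wk k)) ≫
        (yon S).map (sigmaOverDesc Wk ck)) ≫ (yon S).map (toBase T) := by
    rw [Category.assoc, hcT]
    exact sqSg.w
  have sqT : IsPullback (pullback.lift ũ _ hw)
      ((yon S).map (sigmaOverDesc Ek (fun k => ek k ≫ sigmaOverι Wk k)))
      (pullback.snd (toPt (FDSh D)) ((yon S).map (toBase T)))
      ((yon S).map (sigmaOverDesc Wk ck)) := by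
    refine IsPullback.of_right ?_ (pullback.lift_snd _ _ _) sqT0
    rw [pullback.lift_fst, hcT]
    exact sqSg
  -- the descent datum
  obtain ⟨Y, ⟨θ⟩⟩ := h3 _ _ (sigmaOverDesc Wk ck).left hcaff inferInstance hcflat hcsurj
    (Psi1 (sigmaOverDesc Wk ck) (sigmaOverDesc Ek (fun k => ek k ≫ sigmaOverι Wk k)) _ _ sqT) hPe
  obtain ⟨ε, hε⟩ := exists_iso_of_effective (sigmaOverDesc Wk ck)
    (sigmaOverDesc Ek (fun k => ek k ≫ sigmaOverι Wk k)) _ _ sqT hPt Y θ
  refine ⟨YO T Y, yO T Y, ε.hom ≫ pullback.fst (toPt (FDSh D)) ((yon S).map (toBase T)), ?_⟩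
  refine IsPullback.of_iso sqT0 ε.symm (Iso.refl _) (Iso.refl _) (Iso.refl _) (by simp) ?_
    (by simp) (by simp)
  rw [Iso.refl_hom, Category.comp_id, Iso.symm_hom, ← hε, Iso.inv_hom_id_assoc]

include h2 h3 hu hD in
/-- **Reduction of effectiveness of descent data with `P` along fpqc covering families to the
case of a flat surjective morphism of affine schemes.** -/
theorem isEffective_of_fpqc_of_affine : D.IsEffective := by
  have hrep : Representable (toPt (FDSh D)) := by
    apply representable_of_forall_affine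
    intro T hT g
    have : IsAffine T.left := hT
    have hg : g = (yon S).map (toBase T) := (ptIsTerminal S).hom_ext _ _
    rw [hg]
    exact exists_rep_over_affine P h2 h3 u hu D hD T
  obtain ⟨W, snd, fst, sqW⟩ := hrep (𝟙 ((yon S).obj (Over.mk (𝟙 S))))
  have hiso : IsIso fst := sqW.isIso_fst_of_isIso
  exact isEffective_of_iso D (asIso fst)

end main

end Groth.Agent.H3.DescSh
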