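import Groth.Agent.Lib.Helper3.DescSh.FpqcShAffine
import Groth.Agent.Lib.Helper3.DescSh.ClosedImm
import Groth.Agent.Lib.Helper3.DescSh.FpqcRed
import Mathlib

/-!
# Descent data of affine morphisms relative to an fpqc covering are effective (helper3)
-/

set_option autoImplicit false
set_option backward.isDefEq.respectTransparency false
set_option backward.isDefEq.respectTransparency.types false

universe u

open CategoryTheory CategoryTheory.Limits AlgebraicGeometry Opposite

namespace Groth.Agent.H3.DescSh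

open _root_.Desc _root_.AlgSp Groth.Agent.H5.Desc Groth.Agent.H5.AlgSp

/-- Disjoint unions of morphisms with a property which is local at the target. -/
lemma prop_sigmaMap_of_isZariskiLocalAtTarget (P : MorphismProperty Scheme.{u})
    [IsZariskiLocalAtTarget P] {ι : Type u} (X X₀ : ι → Scheme.{u}) (i : ∀ j, X₀ j ⟶ X j)
    (hi : ∀ j, P (i j)) : P (Limits.Sigma.map i) := by
  rw [IsZariskiLocalAtTarget.iff_of_openCover (P := P) (sigmaOpenCover X)]
  intro j
  have h := (Groth.Agent.H5.HensCouple.isPullback_sigma X X₀ i j).flip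
  have e : pullback.snd (Limits.Sigma.map i) (Limits.Sigma.ι X j) = h.isoPullback.inv ≫ i j := by
    rw [Iso.eq_inv_comp, h.isoPullback_hom_snd]
  change P (pullback.snd (Limits.Sigma.map i) (Limits.Sigma.ι X j))
  rw [e]
  exact (P.cancel_left_of_respectsIso _ _).2 (hi j)

/-- Finite disjoint unions of morphisms with a property which is local at the target. -/
lemma prop_sigmaMap_fin_of_isZariskiLocalAtTarget (P : MorphismProperty Scheme.{u})
    [IsZariskiLocalAtTarget P] (m : ℕ) (Y V : Fin m → Scheme.{u}) (q : ∀ j, Y j ⟶ V j)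
    (hq : ∀ j, P (q j)) : P (Limits.Sigma.map q) :=
  prop_sigmaMap_fin_of_ulift P m
    (fun Y' V' q' hq' => prop_sigmaMap_of_isZariskiLocalAtTarget P V' Y' q' hq') Y V q hq

/-- **Affine case of descent for affine morphisms.** -/
theorem effective_of_isAffineHom {X S : Scheme.{u}} [IsAffine X] [IsAffine S] (p : X ⟶ S)
    [Flat p] [Surjective p] (D : SchDD p) (hD : IsAffineHom D.obj.hom) :
    ∃ U : Over S, Nonempty ((toDD p).obj U ≅ D) := by
  have := hD
  have sq := isPullback_kap ((SchDDFam.ofSchDD.{u} p).obj D) PUnit.unit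
  have h1 : IsAffine (Over.mk (𝟙 S)).left := inferInstanceAs (IsAffine S)
  have h2 : IsAffine (XO (fun _ : PUnit.{u + 1} => p) PUnit.unit).left :=
    inferInstanceAs (IsAffine X)
  have h3 : IsAffine (DO ((SchDDFam.ofSchDD.{u} p).obj D) PUnit.unit).left := by
    change IsAffine D.obj.left
    exact isAffine_of_isAffineHom D.obj.hom
  have h4 : Flat (toBase (XO (fun _ : PUnit.{u + 1} => p) PUnit.unit)).left :=
    inferInstanceAs (Flat p)
  have h5 : Surjective (toBase (XO (fun _ : PUnit.{u + 1} => p) PUnit.unit)).left :=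
    inferInstanceAs (Surjective p)
  obtain ⟨W, w, e, -, -, -⟩ := exists_descent_of_isAffine_fpqc'
    (toBase (XO (fun _ : PUnit.{u + 1} => p) PUnit.unit))
    (dO ((SchDDFam.ofSchDD.{u} p).obj D) PUnit.unit)
    (isFpqcSheaf_FDSh ((SchDDFam.ofSchDD.{u} p).obj D))
    ((ptIsTerminal S).from (FDSh ((SchDDFam.ofSchDD.{u} p).obj D)))
    (kap ((SchDDFam.ofSchDD.{u} p).obj D) PUnit.unit) sq
  obtain ⟨Y, ⟨E⟩⟩ := isEffective_of_iso ((SchDDFam.ofSchDD.{u} p).obj D) e
  exact ⟨Y, ⟨(SchDDFam.toSchDD.{u} p).mapIso E⟩⟩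

lemma ofArrows_pUnit_mem_fpqc {X S : Scheme.{u}} (p : X ⟶ S) [Surjective p] [Flat p]
    [QuasiCompact p] :
    Presieve.ofArrows (fun _ : PUnit.{u + 1} => X) (fun _ => p) ∈ Scheme.fpqcPrecoverage S := by
  rw [Presieve.ofArrows_pUnit]
  exact Scheme.Hom.singleton_mem_fpqcPrecoverage p

/-- **Descent data of affine morphisms relative to a flat, surjective, quasi-compact morphism are
effective.** -/
theorem effective_of_isAffineHom_fpqc {X S : Scheme.{u}} (p : X ⟶ S) [Surjective p] [Flat p]
    [QuasiCompact p] (D : SchDD p) [IsAffineHom D.obj.hom] :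
    ∃ U : Over S, Nonempty ((toDD p).obj U ≅ D) := by
  have heff := isEffective_of_fpqc_of_affine @IsAffineHom
    (prop_sigmaMap_fin_of_isZariskiLocalAtTarget @IsAffineHom)
    (fun X' S' p' hX' hS' hfl hsurj D' hD' => by
      have : IsAffine X' := hX'
      have : IsAffine S' := hS'
      have : Flat p' := hfl
      have : Surjective p' := hsurj
      exact effective_of_isAffineHom p' D' hD')
    (fun _ : PUnit.{u + 1} => p) (ofArrows_pUnit_mem_fpqc p) ((SchDDFam.ofSchDD.{u} p).obj D)
    (fun _ => inferInstanceAs (IsAffineHom D.obj.hom))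
  obtain ⟨Y, ⟨E⟩⟩ := heff
  exact ⟨Y, ⟨(SchDDFam.toSchDD.{u} p).mapIso E⟩⟩

end Groth.Agent.H3.DescSh
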