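import Groth.Agent.Lib.Helper3.DescSh.FpqcShDesc
import Mathlib

/-!
# Open immersions into a scheme descend along fpqc coverings, for sheaves satisfying fpqc descent
(helper3)
-/

set_option autoImplicit false

universe u

open CategoryTheory CategoryTheory.Limits AlgebraicGeometry Opposite

namespace Groth.Agent.H3.DescSh

open _root_.AlgSp Groth.Agent.H5.AlgSp

/-- `F` a sheaf satisfying fpqc descent with a map `g` to a scheme `Y`, `p₂ : Y' ⟶ Y` an fpqc
covering such that the base change of `g` along `p₂` is an open immersion `j : W' ⟶ Y'`.  Then `F`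
is represented by an open subscheme of `Y`. -/
theorem exists_open_descent {S : Scheme.{u}} {F : Sp S} (hF : IsFpqcSheaf F) {Y Y' W' : Over S}
    (p₂ : Y' ⟶ Y) (j : W' ⟶ Y') [Flat p₂.left] [Surjective p₂.left] [QuasiCompact p₂.left]
    [IsOpenImmersion j.left] (g : F ⟶ (yon S).obj Y) (u : (yon S).obj W' ⟶ F)
    (sqTop : IsPullback u ((yon S).map j) g ((yon S).map p₂)) :
    ∃ (U : Over S) (i : U ⟶ Y) (e : (yon S).obj U ≅ F) (w' : W' ⟶ U),
      IsOpenImmersion i.left ∧ e.hom ≫ g = (yon S).map i ∧ Surjective w'.left := by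
  -- the image of `W'` is saturated
  have hsat : p₂.left ⁻¹' (p₂.left '' Set.range j.left) = Set.range j.left := by
    apply subset_antisymm
    · rintro y' ⟨_, ⟨w, rfl⟩, hw⟩
      obtain ⟨z, hz1, hz2⟩ := Scheme.Pullback.exists_preimage_pullback (f := p₂.left)
        (g := p₂.left) (j.left w) y' hw
      have hab : ((pullback p₂.left p₂.left).fromSpecResidueField z ≫
          pullback.fst p₂.left p₂.left) ≫ p₂.left =
          ((pullback p₂.left p₂.left).fromSpecResidueField z ≫
            pullback.snd p₂.left p₂.left) ≫ p₂.left := by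
        rw [Category.assoc, Category.assoc, pullback.condition]
      have hra : Set.range ((pullback p₂.left p₂.left).fromSpecResidueField z ≫
          pullback.fst p₂.left p₂.left) ⊆ Set.range j.left := by
        rintro _ ⟨s, rfl⟩
        refine ⟨w, ?_⟩
        rw [Scheme.Hom.comp_apply, Scheme.fromSpecResidueField_apply, hz1]
      have ha' : IsOpenImmersion.lift j.left _ hra ≫ j.left =
          (pullback p₂.left p₂.left).fromSpecResidueField z ≫ pullback.fst p₂.left p₂.left :=
        IsOpenImmersion.lift_fac _ _ _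
      have hK1 : IsOpenImmersion.lift j.left _ hra ≫ W'.hom =
          ((pullback p₂.left p₂.left).fromSpecResidueField z ≫
            pullback.fst p₂.left p₂.left) ≫ Y'.hom := by
        rw [← Over.w j, ← Category.assoc, ha']
      have hK2 : ((pullback p₂.left p₂.left).fromSpecResidueField z ≫
          pullback.snd p₂.left p₂.left) ≫ Y'.hom =
          ((pullback p₂.left p₂.left).fromSpecResidueField z ≫
            pullback.fst p₂.left p₂.left) ≫ Y'.hom := by
        rw [← Over.w p₂, ← Category.assoc, ← Category.assoc, hab]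
      let ah : Over.mk (((pullback p₂.left p₂.left).fromSpecResidueField z ≫
          pullback.fst p₂.left p₂.left) ≫ Y'.hom) ⟶ W' := Over.homMk _ hK1
      let bh : Over.mk (((pullback p₂.left p₂.left).fromSpecResidueField z ≫
          pullback.fst p₂.left p₂.left) ≫ Y'.hom) ⟶ Y' := Over.homMk _ hK2
      have hcomp : ah ≫ j ≫ p₂ = bh ≫ p₂ := by
        apply Over.OverMorphism.ext
        change IsOpenImmersion.lift j.left _ hra ≫ j.left ≫ p₂.left =
          ((pullback p₂.left p₂.left).fromSpecResidueField z ≫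
            pullback.snd p₂.left p₂.left) ≫ p₂.left
        rw [← Category.assoc, ha', hab]
      have hw2 : ((yon S).map ah ≫ u) ≫ g = (yon S).map bh ≫ (yon S).map p₂ := by
        have e1 : u ≫ g = (yon S).map (j ≫ p₂) := by rw [sqTop.w, Functor.map_comp]
        calc ((yon S).map ah ≫ u) ≫ g = (yon S).map ah ≫ (u ≫ g) := Category.assoc _ _ _
          _ = (yon S).map ah ≫ (yon S).map (j ≫ p₂) := congrArg _ e1
          _ = (yon S).map (ah ≫ j ≫ p₂) := ((yon S).map_comp _ _).symm
          _ = (yon S).map (bh ≫ p₂) := congrArg _ hcomp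
          _ = _ := (yon S).map_comp _ _
      obtain ⟨zh, hzh⟩ := (yon S).map_surjective (sqTop.lift _ _ hw2)
      have hzj : zh ≫ j = bh := by
        apply (yon S).map_injective
        rw [Functor.map_comp, hzh, sqTop.lift_snd]
      have hzl : zh.left ≫ j.left = (pullback p₂.left p₂.left).fromSpecResidueField z ≫
          pullback.snd p₂.left p₂.left := congrArg (fun m => m.left) hzj
      refine ⟨zh.left (IsLocalRing.closedPoint ((pullback p₂.left p₂.left).residueField z)), ?_⟩
      rw [← Scheme.Hom.comp_apply, hzl, Scheme.Hom.comp_apply, Scheme.fromSpecResidueField_apply,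
        hz2]
    · intro y' hy'
      exact ⟨y', hy', rfl⟩
  have hq := Flat.isQuotientMap_of_surjective p₂.left
  have hopen : IsOpen (p₂.left '' Set.range j.left) := by
    rw [← hq.isOpen_preimage, hsat]
    exact j.left.isOpenEmbedding.isOpen_range
  let Uo : Y.left.Opens := ⟨p₂.left '' Set.range j.left, hopen⟩
  let U : Over S := Over.mk (Uo.ι ≫ Y.hom)
  let i : U ⟶ Y := Over.homMk Uo.ι rfl
  have hi : IsOpenImmersion i.left := inferInstanceAs (IsOpenImmersion Uo.ι)
  have hrange : Set.range (j.left ≫ p₂.left) ⊆ Set.range Uo.ι := by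
    rw [Scheme.Opens.range_ι]
    rintro _ ⟨w, rfl⟩
    exact ⟨j.left w, ⟨w, rfl⟩, (Scheme.Hom.comp_apply _ _ _).symm⟩
  have hw'₀ : IsOpenImmersion.lift Uo.ι (j.left ≫ p₂.left) hrange ≫ Uo.ι = j.left ≫ p₂.left :=
    IsOpenImmersion.lift_fac _ _ _
  let w' : W' ⟶ U := Over.homMk (IsOpenImmersion.lift Uo.ι (j.left ≫ p₂.left) hrange) (by
    change IsOpenImmersion.lift Uo.ι (j.left ≫ p₂.left) hrange ≫ Uo.ι ≫ Y.hom = W'.hom
    rw [← Category.assoc, hw'₀, Category.assoc, Over.w p₂, Over.w j])
  have hw'i : w' ≫ i = j ≫ p₂ := Over.OverMorphism.ext hw'₀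
  -- the scheme-level pullback square
  have sqS : IsPullback w'.left j.left Uo.ι p₂.left := by
    refine IsOpenImmersion.isPullback w'.left j.left Uo.ι p₂.left hw'₀.symm ?_
    apply TopologicalSpace.Opens.ext
    rw [Scheme.Opens.opensRange_ι]
    exact hsat
  have hw1 : Flat w'.left := MorphismProperty.of_isPullback (P := @Flat) sqS.flip inferInstance
  have hw2 : Surjective w'.left :=
    MorphismProperty.of_isPullback (P := @Surjective) sqS.flip inferInstance
  have hw3 : QuasiCompact w'.left :=
    MorphismProperty.of_isPullback (P := @QuasiCompact) sqS.flip inferInstance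
  have hjmono : ∀ {T : Over S} (x₁ x₂ : T ⟶ W'), x₁ ≫ j = x₂ ≫ j → x₁ = x₂ := by
    intro T x₁ x₂ h
    apply Over.OverMorphism.ext
    have : Mono j.left := inferInstance
    exact (cancel_mono j.left).1 (congrArg (fun m => m.left) h)
  have himono : ∀ {T : Over S} (x₁ x₂ : T ⟶ U), x₁ ≫ i = x₂ ≫ i → x₁ = x₂ := by
    intro T x₁ x₂ h
    apply Over.OverMorphism.ext
    have : Mono i.left := inferInstance
    exact (cancel_mono i.left).1 (congrArg (fun m => m.left) h)
  -- the map `F ⟶ h_U`
  obtain ⟨g', hg'⟩ := exists_desc_of_fpqc' p₂ j g u sqTop ((yon S).map w') (isFpqcSheaf_yon U) (by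
    intro T x₁ x₂ hx
    rw [← Functor.map_comp, ← Functor.map_comp]
    congr 1
    apply himono
    rw [Category.assoc, Category.assoc, hw'i]
    apply (yon S).map_injective
    have e : ∀ x : T ⟶ W', (yon S).map (x ≫ j ≫ p₂) = ((yon S).map x ≫ u) ≫ g := by
      intro x
      rw [Category.assoc, sqTop.w, Functor.map_comp, Functor.map_comp]
    rw [e, e, hx])
  have hg'i : g' ≫ (yon S).map i = g := by
    apply hom_ext_of_fpqc' p₂ j g u sqTop (isFpqcSheaf_yon Y)
    rw [← Category.assoc, hg', ← Functor.map_comp, hw'i, Functor.map_comp, sqTop.w]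
  have sqb : IsPullback u (𝟙 _) g' ((yon S).map w') := by
    apply isPullback_of_yon (by rw [hg', Category.id_comp])
    intro T x y hxy
    obtain ⟨yh, rfl⟩ := (yon S).map_surjective y
    have hw3 : x ≫ g = ((yon S).map yh ≫ (yon S).map j) ≫ (yon S).map p₂ := by
      rw [← hg'i, ← Category.assoc, hxy, Category.assoc, Category.assoc, ← Functor.map_comp,
        hw'i, Functor.map_comp]
    obtain ⟨zh, hzh⟩ := (yon S).map_surjective (sqTop.lift x _ hw3)
    have h1 : (yon S).map zh ≫ u = x := by rw [hzh, sqTop.lift_fst]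
    have h2 : zh ≫ j = yh ≫ j := by
      apply (yon S).map_injective
      rw [Functor.map_comp, hzh, sqTop.lift_snd, Functor.map_comp]
    have h3 : zh = yh := hjmono _ _ h2
    refine ⟨(yon S).map yh, ⟨by rw [← h3, h1], Category.comp_id _⟩, ?_⟩
    rintro z' ⟨-, hz'⟩
    rw [← hz', Category.comp_id]
  have hiso : IsIso g' := isIso_of_isPullback_id hF w' g' u sqb
  refine ⟨U, i, (asIso g').symm, w', hi, ?_, hw2⟩
  rw [Iso.symm_hom, asIso_inv, IsIso.inv_comp_eq, hg'i]

end Groth.Agent.H3.DescSh
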