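import Groth.Agent.Lib.Helper3.Desc.FpqcQuasiAffine
import Groth.Agent.Lib.Helper3.DescSh.FpqcShOpen
import Mathlib

/-!
# Effective fpqc descent for quasi-affine schemes over a sheaf satisfying fpqc descent (helper3)

Version of `Desc/FpqcQuasiAffine.lean` where the sheaf `F` is only assumed to satisfy descent for
fpqc morphisms instead of being an algebraic space.
-/

set_option autoImplicit false

universe u

open CategoryTheory CategoryTheory.Limits AlgebraicGeometry Opposite TensorProduct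
  Algebra.TensorProduct

namespace Groth.Agent.H3.DescSh

open _root_.AlgSp Groth.Agent.H5.AlgSp Groth.Agent.H5.Descent Groth.Agent.H3.AlgSpCov
  Groth.Agent.H3.FpqcDesc

variable {S : Scheme.{u}}

variable {T T' W' : Over S} (c : T' ⟶ T) (v : W' ⟶ T') {F : Sp S}
  (π : F ⟶ (yon S).obj T) (u : (yon S).obj W' ⟶ F)

/-- **Effective fpqc descent for quasi-affine schemes** (fpqc sheaf version): `T`, `T'`
affine, `T' → T` flat surjective, `W'` quasi-affine. -/
theorem exists_descent_of_isQuasiAffine_fpqc' [IsAffine T.left] [IsAffine T'.left]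
    [W'.left.IsQuasiAffine] [Flat c.left] [Surjective c.left] (hF : IsFpqcSheaf F)
    (sq : IsPullback u ((yon S).map v) π ((yon S).map c)) :
    ∃ (W : Over S) (w : W ⟶ T) (e : (yon S).obj W ≅ F), e.hom ≫ π = (yon S).map w ∧
      W.left.IsQuasiAffine := by
  have hcqc : QuasiCompact c.left := by
    have : IsAffineHom c.left := isAffineHom_of_isAffine _
    infer_instance
  let _ : Algebra Γ(T.left, ⊤) Γ(T'.left, ⊤) := (sharp c).toAlgebra
  let _ : Algebra Γ(T'.left, ⊤) Γ(W'.left, ⊤) := (sharp v).toAlgebra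
  let _ : Algebra Γ(T.left, ⊤) Γ(W'.left, ⊤) := (sharp (v ≫ c)).toAlgebra
  obtain ⟨htower, θ, h1, h2, h3, hco⟩ := exists_coaction_of_isPullback c v π u sq
  have hflat : Module.Flat Γ(T.left, ⊤) Γ(T'.left, ⊤) :=
    (HasRingHomProperty.iff_of_isAffine (P := @Flat)).1 (inferInstanceAs (Flat c.left))
  have hbij := descMul_bijective θ h1 h2 h3
  let M : Subalgebra Γ(T.left, ⊤) Γ(W'.left, ⊤) := descAlg θ
  -- the affine scheme `W̄ = Spec M` over `T`
  let φA : CommRingCat.of Γ(T.left, ⊤) ⟶ CommRingCat.of M :=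
    CommRingCat.ofHom (algebraMap Γ(T.left, ⊤) M)
  let φM : CommRingCat.of M ⟶ Γ(W'.left, ⊤) := CommRingCat.ofHom M.val.toRingHom
  have hφ : φA ≫ φM = (v ≫ c).left.appTop := rfl
  let wbar₀ : Spec (.of M) ⟶ T.left := Spec.map φA ≫ T.left.isoSpec.inv
  let Wbar : Over S := Over.mk (wbar₀ ≫ T.hom)
  let wbar : Wbar ⟶ T := Over.homMk wbar₀ rfl
  let κ₀ : W'.left ⟶ Spec (.of M) := W'.left.toSpecΓ ≫ Spec.map φM
  have hκ₀ : κ₀ ≫ wbar₀ = (v ≫ c).left := by
    change (W'.left.toSpecΓ ≫ Spec.map φM) ≫ Spec.map φA ≫ T.left.isoSpec.inv = _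
    rw [Category.assoc, ← Category.assoc (Spec.map φM), ← Spec.map_comp, hφ,
      ← Scheme.toSpecΓ_naturality_assoc, Scheme.toSpecΓ_isoSpec_inv, Category.comp_id]
  let κ : W' ⟶ Wbar := Over.homMk κ₀ (by
    change κ₀ ≫ wbar₀ ≫ T.hom = W'.hom
    rw [← Category.assoc, hκ₀, Over.w])
  have hκw : κ ≫ wbar = v ≫ c := by
    ext
    exact hκ₀
  -- the map `F ⟶ h_{W̄}`
  have hκx : ∀ {Z : Over S} (x₁ x₂ : Z ⟶ W'),
      (yon S).map x₁ ≫ u = (yon S).map x₂ ≫ u → x₁ ≫ κ = x₂ ≫ κ := by
    intro Z x₁ x₂ hu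
    ext
    change x₁.left ≫ W'.left.toSpecΓ ≫ Spec.map φM = x₂.left ≫ W'.left.toSpecΓ ≫ Spec.map φM
    rw [Scheme.toSpecΓ_naturality_assoc, Scheme.toSpecΓ_naturality_assoc, ← Spec.map_comp,
      ← Spec.map_comp]
    congr 2
    ext m
    exact hco x₁ x₂ hu m.1 m.2
  obtain ⟨g, hug⟩ := exists_desc_of_fpqc' c v π u sq ((yon S).map κ) (isFpqcSheaf_yon _)
    (fun x₁ x₂ h => by rw [← Functor.map_comp, ← Functor.map_comp, hκx x₁ x₂ h])
  have hgπ : g ≫ (yon S).map wbar = π := by
    apply hom_ext_of_fpqc' c v π u sq (isFpqcSheaf_yon _)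
    rw [← Category.assoc, hug, sq.w, ← Functor.map_comp, ← Functor.map_comp, hκw]
  -- `W̄' = T' ×_T W̄` and `j : W' ⟶ W̄'`
  have sqWb := IsPullback.of_hasPullback c wbar
  set p₁ := pullback.fst c wbar with hp₁
  set p₂ := pullback.snd c wbar with hp₂
  let j : W' ⟶ pullback c wbar := pullback.lift v κ hκw.symm
  have hj1 : j ≫ p₁ = v := pullback.lift_fst _ _ _
  have hj2 : j ≫ p₂ = κ := pullback.lift_snd _ _ _
  have sqTop : IsPullback u ((yon S).map j) g ((yon S).map p₂) := by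
    refine IsPullback.of_bot (v₂₁ := (yon S).map p₁) (v₂₂ := (yon S).map wbar)
      (h₃₁ := (yon S).map c) ?_ ?_ (sqWb.map (yon S)).flip
    · rw [hgπ, ← Functor.map_comp, hj1]
      exact sq
    · rw [hug, ← Functor.map_comp, hj2]
  -- `j` is an open immersion
  have hWbaff : IsAffine Wbar.left := inferInstanceAs (IsAffine (Spec (.of M)))
  have hp₂aff : IsAffineHom p₂.left := by
    rw [hp₂, left_pullback_snd_iff @IsAffineHom]
    exact MorphismProperty.pullback_snd (P := @IsAffineHom) _ _ inferInstance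
  have hWb'aff : IsAffine (pullback c wbar).left := isAffine_of_isAffineHom p₂.left
  let _ : Algebra Γ(T.left, ⊤) Γ(Wbar.left, ⊤) := (sharp wbar).toAlgebra
  obtain ⟨ψ, hψ⟩ := exists_ringEquiv_of_isPullback sqWb.flip rfl rfl
  -- identification `M ≃ Γ(W̄)`
  have I1 : wbar₀.appTop = φA ≫ (Scheme.ΓSpecIso (.of M)).inv := by
    change (Spec.map φA ≫ T.left.isoSpec.inv).appTop = _
    rw [Scheme.Hom.comp_appTop, isoSpec_inv_appTop', Scheme.ΓSpecIso_inv_naturality]
    rfl
  have I2 : (Scheme.ΓSpecIso (.of M)).inv ≫ κ₀.appTop = φM := by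
    change _ ≫ (W'.left.toSpecΓ ≫ Spec.map φM).appTop = _
    rw [Scheme.Hom.comp_appTop, Scheme.toSpecΓ_appTop, ← Category.assoc,
      ← Scheme.ΓSpecIso_inv_naturality, Category.assoc, Iso.inv_hom_id, Category.comp_id]
  let γ₀ : M ≃+* Γ(Wbar.left, ⊤) := (Scheme.ΓSpecIso (.of M)).symm.commRingCatIsoToRingEquiv
  have hγ₀ : ∀ m, γ₀ m = (Scheme.ΓSpecIso (.of M)).inv.hom m := fun m => rfl
  let γ : M ≃ₐ[Γ(T.left, ⊤)] Γ(Wbar.left, ⊤) :=
    { γ₀ with
      commutes' := fun r => by
        change γ₀ (algebraMap Γ(T.left, ⊤) M r) = sharp wbar r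
        rw [hγ₀]
        have := congrArg (fun φ => φ.hom r) I1
        exact this.symm }
  have hκγ : ∀ m : M, sharp κ (γ m) = (m : Γ(W'.left, ⊤)) := fun m => by
    have := congrArg (fun φ => φ.hom m) I2
    exact this
  let Ψ : Γ(T'.left, ⊤) ⊗[Γ(T.left, ⊤)] M ≃ₐ[Γ(T.left, ⊤)]
      Γ(T'.left, ⊤) ⊗[Γ(T.left, ⊤)] Γ(Wbar.left, ⊤) :=
    Algebra.TensorProduct.congr AlgEquiv.refl γ
  have hΨ : ∀ a m, Ψ (a ⊗ₜ m) = a ⊗ₜ γ m := fun a m => rfl
  have hjΨ : ∀ z, sharp j (ψ (Ψ z)) = descMul θ z := by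
    intro z
    induction z using TensorProduct.induction_on with
    | zero => simp
    | tmul a m =>
      rw [hΨ, hψ, map_mul, ← sharp_comp_apply, ← sharp_comp_apply, hj1, hj2, hκγ, descMul_tmul]
      rfl
    | add x y hx hy => simp only [map_add, hx, hy]
  have hjbij : Function.Bijective (sharp j) := by
    have h0 : (sharp j : _ → _) = (descMul θ) ∘ Ψ.symm ∘ ψ.symm := by
      funext y
      obtain ⟨z, rfl⟩ := ψ.surjective y
      obtain ⟨z', rfl⟩ := Ψ.surjective z
      simp only [Function.comp_apply, RingEquiv.symm_apply_apply, AlgEquiv.symm_apply_apply]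
      exact hjΨ z'
    rw [h0]
    exact hbij.comp (Ψ.symm.bijective.comp ψ.symm.bijective)
  have hjiso : IsIso j.left.appTop :=
    (ConcreteCategory.isIso_iff_bijective j.left.appTop).2 hjbij
  have hjopen : IsOpenImmersion j.left := by
    have hnat := Scheme.toSpecΓ_naturality j.left
    have h1 : IsOpenImmersion (j.left ≫ (pullback c wbar).left.toSpecΓ) := by
      rw [hnat]
      infer_instance
    exact IsOpenImmersion.of_comp j.left (pullback c wbar).left.toSpecΓ
  -- descend the open immersion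
  have hp₂1 : Flat p₂.left := by
    rw [hp₂, left_pullback_snd_iff @Flat]
    exact MorphismProperty.pullback_snd (P := @Flat) _ _ inferInstance
  have hp₂2 : QuasiCompact p₂.left := by
    rw [hp₂, left_pullback_snd_iff @QuasiCompact]
    exact MorphismProperty.pullback_snd (P := @QuasiCompact) _ _ hcqc
  have hp₂3 : Surjective p₂.left := by
    rw [hp₂, left_pullback_snd_iff @Surjective]
    exact MorphismProperty.pullback_snd (P := @Surjective) _ _ inferInstance
  obtain ⟨U, i, e, w', hi, hei, hw'surj⟩ := exists_open_descent hF p₂ j g u sqTop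
  refine ⟨U, i ≫ wbar, e, ?_, ?_⟩
  · rw [← hgπ, ← Category.assoc, hei, Functor.map_comp]
  have : CompactSpace ↥W'.left := inferInstance
  have : CompactSpace ↥U.left :=
    Function.Surjective.compactSpace w'.left.continuous w'.left.surjective
  have : Wbar.left.IsQuasiAffine := inferInstance
  exact Scheme.IsQuasiAffine.of_isImmersion i.left

end Groth.Agent.H3.DescSh
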