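import Groth.Agent.Lib.Helper5.AlgSp.Basic
import Mathlib

/-!
# Fppf sheaves satisfying descent along fpqc morphisms (helper3)
-/

set_option autoImplicit false

universe u

open CategoryTheory CategoryTheory.Limits AlgebraicGeometry Opposite

namespace Groth.Agent.H3.DescSh

open _root_.AlgSp Groth.Agent.H5.AlgSp

variable {S : Scheme.{u}}

/-- `F` satisfies the sheaf condition for single flat, surjective, quasi-compact morphisms. -/
def IsFpqcSheaf (F : Sp S) : Prop :=
  ∀ ⦃T T' : Over S⦄ (c : T' ⟶ T), Flat c.left → Surjective c.left → QuasiCompact c.left →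
    Presieve.IsSheafFor F.obj (Presieve.singleton c)

lemma yEquiv_map {F : Sp S} {T T' : Over S} (c : T' ⟶ T) (s : (yon S).obj T ⟶ F) :
    F.obj.map c.op (yEquiv F T s) = yEquiv F T' ((yon S).map c ≫ s) :=
  (J S).uliftYonedaEquiv_naturality s c

namespace IsFpqcSheaf

variable {F : Sp S} (hF : IsFpqcSheaf F) {T T' : Over S} (c : T' ⟶ T)

include hF in
/-- Uniqueness. -/
theorem hom_ext [Flat c.left] [Surjective c.left] [QuasiCompact c.left]
    (s₁ s₂ : (yon S).obj T ⟶ F) (h : (yon S).map c ≫ s₁ = (yon S).map c ≫ s₂) : s₁ = s₂ := by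
  have hsh := hF c inferInstance inferInstance inferInstance
  apply (yEquiv F T).injective
  apply hsh.isSeparatedFor.ext
  rintro Y g ⟨⟩
  rw [yEquiv_map, yEquiv_map, h]

include hF in
/-- Existence. -/
theorem exists_desc [Flat c.left] [Surjective c.left] [QuasiCompact c.left]
    (s' : (yon S).obj T' ⟶ F)
    (h : ∀ {Z : Over S} (g₁ g₂ : Z ⟶ T'), g₁ ≫ c = g₂ ≫ c →
      (yon S).map g₁ ≫ s' = (yon S).map g₂ ≫ s') :
    ∃ s : (yon S).obj T ⟶ F, (yon S).map c ≫ s = s' := by
  have hsh := hF c inferInstance inferInstance inferInstance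
  let x : Presieve.FamilyOfElements F.obj (Presieve.singleton c) :=
    (Presieve.FamilyOfElements.singletonEquiv F.obj c).symm (yEquiv F T' s')
  have hxc : x c ⟨⟩ = yEquiv F T' s' :=
    Presieve.FamilyOfElements.singletonEquiv_symm_apply_self c _
  have hx : x.Compatible := by
    rw [Presieve.FamilyOfElements.compatible_singleton_iff]
    intro Z p₁ p₂ hp
    rw [hxc, yEquiv_map, yEquiv_map, h p₁ p₂ hp]
  obtain ⟨t, ht, -⟩ := hsh x hx
  rw [Presieve.FamilyOfElements.isAmalgamation_singleton_iff, hxc] at ht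
  refine ⟨(yEquiv F T).symm t, ?_⟩
  apply (yEquiv F T').injective
  rw [← yEquiv_map, Equiv.apply_symm_apply, ht]

end IsFpqcSheaf

/-- Representable sheaves satisfy fpqc descent. -/
theorem isFpqcSheaf_yon (V : Over S) : IsFpqcSheaf ((yon S).obj V) := by
  intro T T' c h1 h2 h3
  have : EffectiveEpi c.left := inferInstance
  intro x hx
  rw [Presieve.FamilyOfElements.compatible_singleton_iff] at hx
  -- the element over `T'`
  let w : T' ⟶ V := (x c ⟨⟩).down
  have hw : x c ⟨⟩ = ⟨w⟩ := rfl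
  have hcond : ∀ {Z : Scheme.{u}} (g₁ g₂ : Z ⟶ T'.left), g₁ ≫ c.left = g₂ ≫ c.left →
      g₁ ≫ w.left = g₂ ≫ w.left := by
    intro Z g₁ g₂ hg
    have hg2 : g₂ ≫ T'.hom = g₁ ≫ T'.hom := by
      rw [← Over.w c, ← Category.assoc, ← Category.assoc, hg]
    let G₁ : Over.mk (g₁ ≫ T'.hom) ⟶ T' := Over.homMk g₁ rfl
    let G₂ : Over.mk (g₁ ≫ T'.hom) ⟶ T' := Over.homMk g₂ hg2
    have hG : G₁ ≫ c = G₂ ≫ c := Over.OverMorphism.ext hg
    have h4 := hx G₁ G₂ hG
    rw [hw] at h4
    have h5 : G₁ ≫ w = G₂ ≫ w := congrArg ULift.down h4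
    exact congrArg (fun m => m.left) h5
  let e₀ : T.left ⟶ V.left := EffectiveEpi.desc c.left w.left hcond
  have he₀ : c.left ≫ e₀ = w.left := EffectiveEpi.fac _ _ _
  have he₀S : e₀ ≫ V.hom = T.hom := by
    have : Epi c.left := inferInstance
    rw [← cancel_epi c.left, ← Category.assoc, he₀, Over.w, Over.w]
  let e : T ⟶ V := Over.homMk e₀ he₀S
  have hce : c ≫ e = w := Over.OverMorphism.ext he₀
  refine ⟨⟨e⟩, ?_, ?_⟩
  · beta_reduce
    rw [Presieve.FamilyOfElements.isAmalgamation_singleton_iff, hw]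
    exact congrArg ULift.up hce
  · rintro ⟨e'⟩ he'
    rw [Presieve.FamilyOfElements.isAmalgamation_singleton_iff, hw] at he'
    have h6 : c ≫ e' = w := congrArg ULift.down he'
    congr 1
    apply Over.OverMorphism.ext
    have : Epi c.left := inferInstance
    rw [← cancel_epi c.left]
    have h7 := congrArg (fun m => m.left) (h6.trans hce.symm)
    exact h7

/-- Fpqc descent passes to fibre products. -/
theorem isFpqcSheaf_of_isPullback {P F G H : Sp S} {fst : P ⟶ F} {snd : P ⟶ H} {f : F ⟶ G}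
    {g : H ⟶ G} (sq : IsPullback fst snd f g) (hF : IsFpqcSheaf F) (hG : IsFpqcSheaf G)
    (hH : IsFpqcSheaf H) : IsFpqcSheaf P := by
  intro T T' c h1 h2 h3
  intro x hx
  rw [Presieve.FamilyOfElements.compatible_singleton_iff] at hx
  set s' := (yEquiv P T').symm (x c ⟨⟩) with hs'
  have hxs : x c ⟨⟩ = yEquiv P T' s' := by rw [hs', Equiv.apply_symm_apply]
  have hcomp : ∀ {Z : Over S} (g₁ g₂ : Z ⟶ T'), g₁ ≫ c = g₂ ≫ c →
      (yon S).map g₁ ≫ s' = (yon S).map g₂ ≫ s' := by
    intro Z g₁ g₂ hg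
    apply (yEquiv P Z).injective
    rw [← yEquiv_map, ← yEquiv_map, ← hxs]
    exact hx g₁ g₂ hg
  obtain ⟨a, ha⟩ := hF.exists_desc c (s' ≫ fst) (fun g₁ g₂ hg => by
    rw [← Category.assoc, ← Category.assoc, hcomp g₁ g₂ hg])
  obtain ⟨b, hb⟩ := hH.exists_desc c (s' ≫ snd) (fun g₁ g₂ hg => by
    rw [← Category.assoc, ← Category.assoc, hcomp g₁ g₂ hg])
  have hab : a ≫ f = b ≫ g := by
    apply hG.hom_ext c
    rw [← Category.assoc, ha, ← Category.assoc, hb, Category.assoc, Category.assoc, sq.w]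
  refine ⟨yEquiv P T (sq.lift a b hab), ?_, ?_⟩
  · beta_reduce
    rw [Presieve.FamilyOfElements.isAmalgamation_singleton_iff, yEquiv_map, hxs]
    congr 1
    apply sq.hom_ext
    · rw [Category.assoc, sq.lift_fst, ha]
    · rw [Category.assoc, sq.lift_snd, hb]
  · intro t ht
    rw [Presieve.FamilyOfElements.isAmalgamation_singleton_iff, hxs] at ht
    have h8 : (yon S).map c ≫ (yEquiv P T).symm t = s' := by
      apply (yEquiv P T').injective
      rw [← yEquiv_map, Equiv.apply_symm_apply, ht]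
    rw [← Equiv.symm_apply_eq]
    apply sq.hom_ext
    · rw [sq.lift_fst]
      apply hF.hom_ext c
      rw [← Category.assoc, h8, ha]
    · rw [sq.lift_snd]
      apply hH.hom_ext c
      rw [← Category.assoc, h8, hb]

end Groth.Agent.H3.DescSh
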