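import Groth.Agent.Lib.Helper3.DescSh.FpqcShDesc
import Groth.Agent.Lib.Helper3.Desc.FpqcAffine
import Mathlib

/-!
# Effective fpqc descent of affine schemes over a sheaf satisfying fpqc descent (helper3)

Versions of `Desc/FpqcAffineRing.lean` and `Desc/FpqcAffine.lean` where the sheaf `F` is only
assumed to satisfy descent for fpqc morphisms instead of being an algebraic space.
-/

set_option autoImplicit false

universe u

open CategoryTheory CategoryTheory.Limits AlgebraicGeometry Opposite TensorProduct
  Algebra.TensorProduct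

namespace Groth.Agent.H3.DescSh

open _root_.AlgSp Groth.Agent.H5.AlgSp Groth.Agent.H5.Descent Groth.Agent.H3.AlgSpCov
  Groth.Agent.H3.FpqcDesc

variable {S : Scheme.{u}}

section ring

variable {A A' B' : Type u} [CommRing A] [CommRing A'] [CommRing B']
  [Algebra A A'] [Algebra A B'] [Algebra A' B'] [IsScalarTower A A' B']
  (str : Spec (.of A) ⟶ S) {F : Sp S}
  {π : F ⟶ (yon S).obj (specOver str A)} {u : (yon S).obj (specOver str B') ⟶ F}

/-- **Effective fpqc descent for affine schemes over a sheaf satisfying fpqc descent, ring form.** -/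
theorem exists_descent_fpqc' [Module.FaithfullyFlat A A'] (hF : IsFpqcSheaf F)
    (sq : IsPullback u ((yon S).map (specOverMap str (IsScalarTower.toAlgHom A A' B'))) π
      ((yon S).map (specOverMap str (Algebra.ofId A A')))) :
    ∃ (M : Subalgebra A B') (g : F ⟶ (yon S).obj (specOver str M)), IsIso g ∧
      g ≫ (yon S).map (specOverMap str (Algebra.ofId A M)) = π ∧
      u ≫ g = (yon S).map (specOverMap str M.val) ∧
      IsPullback (specOverMap str M.val) (specOverMap str (IsScalarTower.toAlgHom A A' B'))
        (specOverMap str (Algebra.ofId A M)) (specOverMap str (Algebra.ofId A A')) ∧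
      ∀ (Q : ∀ {R T : Type u} [CommRing R] [CommRing T], (R →+* T) → Prop),
        RingHom.RespectsIso Q → RingHom.CodescendsAlong Q RingHom.FaithfullyFlat →
        Q (algebraMap A' B') → Q (algebraMap A M) := by
  obtain ⟨θ, h1, hθu⟩ := exists_theta str sq
  have hext : ∀ {Z : Over S} (k l : Z ⟶ specOver str B'),
      (yon S).map k ≫ u = (yon S).map l ≫ u →
      k ≫ specOverMap str (IsScalarTower.toAlgHom A A' B') =
        l ≫ specOverMap str (IsScalarTower.toAlgHom A A' B') → k = l := by
    intro Z k l h h'
    apply (yon S).map_injective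
    apply sq.hom_ext h
    rw [← Functor.map_comp, ← Functor.map_comp, h']
  have hθL : θ.comp (IsScalarTower.toAlgHom A A' B') = (includeLeft : A' →ₐ[A] A' ⊗[A] B') := by
    ext a
    exact h1 a
  -- counit
  have h2 : ∀ b, counit A A' B' (θ b) = b := by
    have key : (counit A A' B').comp θ = AlgHom.id A B' := by
      apply specOverMap_injective str
      rw [specOverMap_comp, specOverMap_id]
      apply hext
      · rw [Functor.map_comp, Category.assoc, hθu, ← Category.assoc, ← Functor.map_comp,
          ← specOverMap_comp]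
        have : (counit A A' B').comp (includeRight : B' →ₐ[A] A' ⊗[A] B') = AlgHom.id A B' := by
          ext b; simp
        rw [this, specOverMap_id]
      · rw [Category.assoc, ← specOverMap_comp, hθL, ← specOverMap_comp, Category.id_comp]
        congr 1
        ext a
        simp
    intro b
    exact congrArg (fun f => f b) key
  -- coassociativity
  have h3 : ∀ b, map (AlgHom.id A A') θ (θ b) =
      map (AlgHom.id A A') (includeRight : B' →ₐ[A] A' ⊗[A] B') (θ b) := by
    have key : (map (AlgHom.id A A') θ).comp θ =
        (map (AlgHom.id A A') (includeRight : B' →ₐ[A] A' ⊗[A] B')).comp θ := by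
      apply specOverMap_injective str
      rw [specOverMap_comp, specOverMap_comp]
      apply hext
      · rw [Functor.map_comp, Functor.map_comp, Category.assoc, Category.assoc, hθu,
          ← Category.assoc, ← Category.assoc, ← Functor.map_comp, ← Functor.map_comp,
          ← specOverMap_comp, ← specOverMap_comp]
        have e1 : (map (AlgHom.id A A') θ).comp (includeRight : B' →ₐ[A] A' ⊗[A] B') =
            (includeRight : A' ⊗[A] B' →ₐ[A] A' ⊗[A] (A' ⊗[A] B')).comp θ := by
          ext b; simp
        have e2 : (map (AlgHom.id A A') (includeRight : B' →ₐ[A] A' ⊗[A] B')).comp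
            (includeRight : B' →ₐ[A] A' ⊗[A] B') =
            (includeRight : A' ⊗[A] B' →ₐ[A] A' ⊗[A] (A' ⊗[A] B')).comp
              (includeRight : B' →ₐ[A] A' ⊗[A] B') := by
          ext b; simp
        rw [e1, e2, specOverMap_comp, specOverMap_comp, Functor.map_comp, Functor.map_comp,
          Category.assoc, Category.assoc, hθu]
      · rw [Category.assoc, Category.assoc, ← specOverMap_comp, hθL, ← specOverMap_comp,
          ← specOverMap_comp]
        congr 1
        ext a
        simp
    intro b
    exact congrArg (fun f => f b) key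
  have hbij := descMul_bijective θ h1 h2 h3
  let M : Subalgebra A B' := descAlg θ
  let e : (A' ⊗[A] M) ≃ₐ[A] B' := AlgEquiv.ofBijective (descMul θ) hbij
  have hsymm : ∀ m : M, e.symm (m : B') = 1 ⊗ₜ m := by
    intro m
    rw [AlgEquiv.symm_apply_eq]
    change _ = descMul θ ((1 : A') ⊗ₜ[A] (m : descAlg θ))
    rw [descMul_tmul, map_one, one_mul]
  have hsymm' : ∀ a : A', e.symm (algebraMap A' B' a) = a ⊗ₜ 1 := by
    intro a
    rw [AlgEquiv.symm_apply_eq]
    change _ = descMul θ (a ⊗ₜ[A] (1 : descAlg θ))
    rw [descMul_tmul, OneMemClass.coe_one, mul_one]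
  have sqW : IsPullback (specOverMap str M.val)
      (specOverMap str (IsScalarTower.toAlgHom A A' B'))
      (specOverMap str (Algebra.ofId A M)) (specOverMap str (Algebra.ofId A A')) := by
    refine IsPullback.of_iso (isPullback_specOver_tensor str (R := A') (R' := M)).flip
      (specOverIso str e).symm (Iso.refl _) (Iso.refl _) (Iso.refl _) ?_ ?_ (by simp) (by simp)
    · change _ ≫ 𝟙 _ = specOverMap str e.symm.toAlgHom ≫ _
      rw [Category.comp_id, ← specOverMap_comp]
      congr 1
      ext m
      exact (hsymm m).symm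
    · change _ ≫ 𝟙 _ = specOverMap str e.symm.toAlgHom ≫ _
      rw [Category.comp_id, ← specOverMap_comp]
      congr 1
      ext a
      exact (hsymm' a).symm
  have hMeq : (specOverMap str θ) ≫ specOverMap str M.val =
      specOverMap str (includeRight : B' →ₐ[A] A' ⊗[A] B') ≫ specOverMap str M.val := by
    rw [← specOverMap_comp, ← specOverMap_comp]
    congr 1
    ext m
    exact m.2
  -- the coequalizing property of `Spec B' ⟶ Spec M`
  have hw : ∀ {T : Over S} (x₁ x₂ : T ⟶ specOver str B'),
      (yon S).map x₁ ≫ u = (yon S).map x₂ ≫ u →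
      x₁ ≫ specOverMap str M.val = x₂ ≫ specOverMap str M.val := by
    intro T x₁ x₂ hu
    have hP := isPullback_specOver_tensor str (R := A') (R' := B')
    have hw : (x₁ ≫ specOverMap str (IsScalarTower.toAlgHom A A' B')) ≫
        specOverMap str (Algebra.ofId A A') = x₂ ≫ specOverMap str (Algebra.ofId A B') := by
      apply (yon S).map_injective
      have e0 : specOverMap str (Algebra.ofId A B') =
          specOverMap str (IsScalarTower.toAlgHom A A' B') ≫
            specOverMap str (Algebra.ofId A A') := by
        rw [← specOverMap_comp]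
        congr 1
        ext
      rw [e0]
      simp only [Functor.map_comp, Category.assoc]
      rw [← sq.w, ← Category.assoc, hu, Category.assoc]
    let z := hP.lift (x₁ ≫ specOverMap str (IsScalarTower.toAlgHom A A' B')) x₂ hw
    have hz1 : z ≫ specOverMap str θ = x₁ := by
      apply hext
      · rw [Functor.map_comp, Category.assoc, hθu, ← Category.assoc, ← Functor.map_comp,
          hP.lift_snd, hu]
      · rw [Category.assoc, ← specOverMap_comp, hθL, hP.lift_fst]
    have hz2 : z ≫ specOverMap str (includeRight : B' →ₐ[A] A' ⊗[A] B') = x₂ := hP.lift_snd _ _ _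
    rw [← hz1, ← hz2, Category.assoc, Category.assoc, hMeq]
  -- instances for the cover `Spec A' ⟶ Spec A`
  have hff : (algebraMap A A').FaithfullyFlat :=
    RingHom.faithfullyFlat_algebraMap_iff.2 inferInstance
  have hc1 : Flat (specOverMap str (Algebra.ofId A A')).left := by
    change Flat (Spec.map (CommRingCat.ofHom (algebraMap A A')))
    rw [HasRingHomProperty.Spec_iff (P := @Flat)]
    exact (RingHom.FaithfullyFlat.iff_flat_and_comap_surjective.1 hff).1
  have hc2 : Surjective (specOverMap str (Algebra.ofId A A')).left := by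
    change Surjective (Spec.map (CommRingCat.ofHom (algebraMap A A')))
    exact ⟨(RingHom.FaithfullyFlat.iff_flat_and_comap_surjective.1 hff).2⟩
  have hc3 : QuasiCompact (specOverMap str (Algebra.ofId A A')).left := by
    change QuasiCompact (Spec.map (CommRingCat.ofHom (algebraMap A A')))
    infer_instance
  obtain ⟨g, hug⟩ := exists_desc_of_fpqc' (specOverMap str (Algebra.ofId A A'))
    (specOverMap str (IsScalarTower.toAlgHom A A' B')) π u sq
    ((yon S).map (specOverMap str M.val)) (isFpqcSheaf_yon _) (fun x₁ x₂ hx => by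
      rw [← Functor.map_comp, ← Functor.map_comp, hw x₁ x₂ hx])
  have hgπ : g ≫ (yon S).map (specOverMap str (Algebra.ofId A M)) = π := by
    apply hom_ext_of_fpqc' (specOverMap str (Algebra.ofId A A'))
      (specOverMap str (IsScalarTower.toAlgHom A A' B')) π u sq (isFpqcSheaf_yon _)
    rw [← Category.assoc, hug, sq.w, ← Functor.map_comp, ← Functor.map_comp, sqW.w]
  refine ⟨M, g, ?_, hgπ, hug, sqW, ?_⟩
  · -- `g` is an isomorphism
    have sqWy := sqW.map (yon S)
    have sqg : IsPullback u (𝟙 _) g ((yon S).map (specOverMap str M.val)) := by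
      apply IsPullback.of_bot _ _ sqWy
      · rw [Category.id_comp, hgπ]
        exact sq
      · rw [Category.id_comp, hug]
    -- the cover `Spec B' ⟶ Spec M`
    have hk1 : Flat (specOverMap str M.val).left :=
      MorphismProperty.of_isPullback (P := @Flat) (sqW.map (Over.forget S)).flip hc1
    have hk2 : Surjective (specOverMap str M.val).left :=
      MorphismProperty.of_isPullback (P := @Surjective) (sqW.map (Over.forget S)).flip hc2
    have hk3 : QuasiCompact (specOverMap str M.val).left :=
      MorphismProperty.of_isPullback (P := @QuasiCompact) (sqW.map (Over.forget S)).flip hc3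
    exact isIso_of_isPullback_id hF (specOverMap str M.val) g u sqg
  · intro Q hQ hQQ hQv
    refine hQQ.algebraMap_tensorProduct _ A A' M hff ?_
    have : algebraMap A' (A' ⊗[A] M) =
        (e.symm.toRingEquiv : B' ≃+* A' ⊗[A] M).toRingHom.comp (algebraMap A' B') := by
      ext a
      exact (hsymm' a).symm
    rw [this]
    exact hQ.1 _ _ hQv


end ring

/-- Affine schemes `T`, `T'`, `W'`; `c : T' ⟶ T` faithfully flat; `F` a sheaf over `T` satisfying fpqc descent
whose base change to `T'` is `W'`.  Then `F` is an affine scheme `W`, and ring theoretic properties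
of `W' ⟶ T'` which descend along faithfully flat ring maps hold for `W ⟶ T`. -/
theorem exists_descent_of_isAffine_fpqc' {T T' W' : Over S} [IsAffine T.left] [IsAffine T'.left]
    [IsAffine W'.left] (c : T' ⟶ T) (v : W' ⟶ T') [Flat c.left] [Surjective c.left]
    {F : Sp S} (hF : IsFpqcSheaf F) (π : F ⟶ (yon S).obj T)
    (u : (yon S).obj W' ⟶ F) (sq : IsPullback u ((yon S).map v) π ((yon S).map c)) :
    ∃ (W : Over S) (w : W ⟶ T) (e : (yon S).obj W ≅ F),
      IsAffine W.left ∧ e.hom ≫ π = (yon S).map w ∧
      ∀ (Q : ∀ {R T : Type u} [CommRing R] [CommRing T], (R →+* T) → Prop),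
        RingHom.RespectsIso Q → RingHom.CodescendsAlong Q RingHom.FaithfullyFlat →
        Q v.left.appTop.hom → Q w.left.appTop.hom := by
  let A : Type u := Γ(T.left, ⊤)
  let A' : Type u := Γ(T'.left, ⊤)
  let B' : Type u := Γ(W'.left, ⊤)
  let φ : A →+* A' := c.left.appTop.hom
  let ψ : A' →+* B' := v.left.appTop.hom
  let _ : Algebra A A' := φ.toAlgebra
  let _ : Algebra A' B' := ψ.toAlgebra
  let _ : Algebra A B' := (ψ.comp φ).toAlgebra
  have : IsScalarTower A A' B' := IsScalarTower.of_algebraMap_eq (fun _ => rfl)
  have hflat : φ.Flat := by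
    have h : Flat c.left := inferInstance
    rw [HasRingHomProperty.iff_of_isAffine (P := @Flat)] at h
    exact h
  have hsurj : Function.Surjective (PrimeSpectrum.comap φ) := by
    have h1 : Spec.map c.left.appTop = T'.left.isoSpec.inv ≫ c.left ≫ T.left.isoSpec.hom := by
      rw [← Category.assoc, ← Scheme.isoSpec_inv_naturality, Category.assoc, Iso.inv_hom_id,
        Category.comp_id]
    have h2 : Surjective (Spec.map c.left.appTop) := by
      rw [h1]; infer_instance
    exact h2.surj
  have hff : φ.FaithfullyFlat := RingHom.FaithfullyFlat.iff_flat_and_comap_surjective.2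
    ⟨hflat, hsurj⟩
  have : Module.FaithfullyFlat A A' := hff
  let str : Spec (.of A) ⟶ S := T.left.isoSpec.inv ≫ T.hom
  have hidA : Spec.map (CommRingCat.ofHom (algebraMap A A)) = 𝟙 _ := by
    rw [Algebra.algebraMap_self]
    exact Spec.map_id _
  let eT : specOver str A ≅ T := Over.isoMk T.left.isoSpec.symm (by
    change T.left.isoSpec.inv ≫ T.hom = Spec.map (CommRingCat.ofHom (algebraMap A A)) ≫ str
    rw [hidA, Category.id_comp])
  let eT' : specOver str A' ≅ T' := Over.isoMk T'.left.isoSpec.symm (by
    change T'.left.isoSpec.inv ≫ T'.hom = Spec.map (CommRingCat.ofHom (algebraMap A A')) ≫ str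
    have h1 : Spec.map (CommRingCat.ofHom (algebraMap A A')) ≫ T.left.isoSpec.inv =
        T'.left.isoSpec.inv ≫ c.left := Scheme.isoSpec_inv_naturality c.left
    rw [← Category.assoc, h1, Category.assoc, Over.w c])
  let eW' : specOver str B' ≅ W' := Over.isoMk W'.left.isoSpec.symm (by
    change W'.left.isoSpec.inv ≫ W'.hom = Spec.map (CommRingCat.ofHom (algebraMap A B')) ≫ str
    have h1 : Spec.map (CommRingCat.ofHom (algebraMap A B')) ≫ T.left.isoSpec.inv =
        W'.left.isoSpec.inv ≫ (v ≫ c).left := by
      have := Scheme.isoSpec_inv_naturality (v ≫ c).left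
      rw [← this]
      congr 2
    rw [← Category.assoc, h1, Category.assoc, Over.w (v ≫ c)])
  have hc : eT'.hom ≫ c = specOverMap str (Algebra.ofId A A') ≫ eT.hom := by
    apply Over.OverMorphism.ext
    change T'.left.isoSpec.inv ≫ c.left = Spec.map _ ≫ T.left.isoSpec.inv
    exact (Scheme.isoSpec_inv_naturality c.left).symm
  have hv : eW'.hom ≫ v = specOverMap str (IsScalarTower.toAlgHom A A' B') ≫ eT'.hom := by
    apply Over.OverMorphism.ext
    change W'.left.isoSpec.inv ≫ v.left = Spec.map _ ≫ T'.left.isoSpec.inv
    exact (Scheme.isoSpec_inv_naturality v.left).symm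
  have sq' : IsPullback ((yon S).map eW'.hom ≫ u)
      ((yon S).map (specOverMap str (IsScalarTower.toAlgHom A A' B')))
      (π ≫ (yon S).map eT.inv) ((yon S).map (specOverMap str (Algebra.ofId A A'))) := by
    refine IsPullback.of_iso sq ((yon S).mapIso eW'.symm) (Iso.refl F) ((yon S).mapIso eT'.symm)
      ((yon S).mapIso eT.symm) ?_ ?_ ?_ ?_
    · simp
    · simp only [Functor.mapIso_hom, Iso.symm_hom]
      rw [← Functor.map_comp, ← Functor.map_comp]
      congr 1
      rw [Iso.eq_inv_comp, ← Category.assoc, hv, Category.assoc, Iso.hom_inv_id, Category.comp_id]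
    · simp
    · simp only [Functor.mapIso_hom, Iso.symm_hom]
      rw [← Functor.map_comp, ← Functor.map_comp]
      congr 1
      rw [Iso.eq_inv_comp, ← Category.assoc, hc, Category.assoc, Iso.hom_inv_id, Category.comp_id]
  obtain ⟨M, g, hg, hgπ, -, -, hQ⟩ := exists_descent_fpqc' str hF sq'
  refine ⟨specOver str M, specOverMap str (Algebra.ofId A M) ≫ eT.hom, (asIso g).symm,
    inferInstanceAs (IsAffine (Spec (.of M))), ?_, ?_⟩
  · change inv g ≫ π = _
    rw [IsIso.inv_comp_eq, Functor.map_comp, ← Category.assoc, hgπ, Category.assoc,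
      ← Functor.map_comp, Iso.inv_hom_id, CategoryTheory.Functor.map_id, Category.comp_id]
  · intro Q hQ1 hQ2 hQv
    have h0 := hQ Q hQ1 hQ2 hQv
    have key : (specOverMap str (Algebra.ofId A M) ≫ eT.hom).left.appTop =
        (T.left.isoSpec.inv.appTop ≫ (Scheme.ΓSpecIso (.of A)).hom) ≫
          CommRingCat.ofHom (algebraMap A M) ≫ (Scheme.ΓSpecIso (.of M)).inv := by
      have e1 : (specOverMap str (Algebra.ofId A M) ≫ eT.hom).left =
          Spec.map (CommRingCat.ofHom (algebraMap A M)) ≫ T.left.isoSpec.inv := rfl
      rw [e1, Scheme.Hom.comp_appTop, Category.assoc]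
      congr 1
      rw [← Category.assoc, ← Scheme.ΓSpecIso_naturality, Category.assoc, Iso.hom_inv_id,
        Category.comp_id]
    rw [key]
    have hi0 : IsIso T.left.isoSpec.inv := inferInstance
    have hi1 : IsIso T.left.isoSpec.inv.appTop :=
      inferInstanceAs (IsIso (T.left.isoSpec.inv.app ⊤))
    have hi2 : IsIso (T.left.isoSpec.inv.appTop ≫ (Scheme.ΓSpecIso (.of A)).hom) :=
      inferInstance
    exact (respectsIso_conj hQ1 _ _ _).2 h0


end Groth.Agent.H3.DescSh
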