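import Groth.Agent.Lib.Helper3.DescSh.PsiEff
import Mathlib

/-!
# Morphisms out of a sheaf over a scheme descend along fpqc base changes (helper3)

`F` a sheaf over `h_Z`, `c : Z' ⟶ Z` flat, surjective and quasi-compact, and the base change
`F ×_Z Z'` representable by `W'`.  Versions of the results of `Desc/FpqcHomDesc.lean` for general
sheaves `F` (instead of algebraic spaces), the target being a sheaf satisfying fpqc descent.
-/

set_option autoImplicit false

universe u

open CategoryTheory CategoryTheory.Limits AlgebraicGeometry Opposite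

namespace Groth.Agent.H3.DescSh

open _root_.AlgSp Groth.Agent.H5.AlgSp

lemma fpqc_snd {S : Scheme.{u}} {T₀ T W : Over S} (r : T₀ ⟶ T) (c : W ⟶ T) [Flat r.left]
    [Surjective r.left] [QuasiCompact r.left] :
    Flat (pullback.snd r c).left ∧ Surjective (pullback.snd r c).left ∧
      QuasiCompact (pullback.snd r c).left := by
  have sqS := (IsPullback.of_hasPullback r c).map (Over.forget S)
  exact ⟨MorphismProperty.of_isPullback (P := @Flat) sqS (inferInstanceAs (Flat r.left)),
    MorphismProperty.of_isPullback (P := @Surjective) sqS (inferInstanceAs (Surjective r.left)),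
    MorphismProperty.of_isPullback (P := @QuasiCompact) sqS
      (inferInstanceAs (QuasiCompact r.left))⟩

section

variable {S : Scheme.{u}} {Z Z' W' : Over S} (c : Z' ⟶ Z) (v : W' ⟶ Z') {F : Sp S}
  (π : F ⟶ (yon S).obj Z) (u : (yon S).obj W' ⟶ F)
  (sq : IsPullback u ((yon S).map v) π ((yon S).map c))
  [Flat c.left] [Surjective c.left] [QuasiCompact c.left]

include sq in
/-- Uniqueness: two maps from `F` to a sheaf satisfying fpqc descent which agree on `h_{W'}` are
equal. -/
theorem hom_ext_of_fpqc' {G : Sp S} (hG : IsFpqcSheaf G) (g₁ g₂ : F ⟶ G)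
    (h : u ≫ g₁ = u ≫ g₂) : g₁ = g₂ := by
  apply hom_ext_yon
  intro T t
  obtain ⟨r, hr⟩ := (yon S).map_surjective (t ≫ π)
  obtain ⟨σ, hσu, -⟩ := exists_lift_datum c v π u sq t r hr.symm
  obtain ⟨f1, f2, f3⟩ := fpqc_fst r c
  apply hG.hom_ext (pullback.fst r c)
  rw [← Category.assoc, ← Category.assoc, ← hσu, Category.assoc, Category.assoc, h]

section desc

variable {G : Sp S} (w : (yon S).obj W' ⟶ G)

/-- The defining property of the value of the descended map on a section. -/
def IsVal {T : Over S} (t : (yon S).obj T ⟶ F) (ē : (yon S).obj T ⟶ G) : Prop :=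
  ∀ (T' : Over S) (pr : T' ⟶ T) (σ : T' ⟶ W'),
    (yon S).map σ ≫ u = (yon S).map pr ≫ t → (yon S).map pr ≫ ē = (yon S).map σ ≫ w

variable {u w} in
lemma IsVal.map {T T₁ : Over S} {t : (yon S).obj T ⟶ F} {ē : (yon S).obj T ⟶ G}
    (H : IsVal u w t ē) (k : T₁ ⟶ T) : IsVal u w ((yon S).map k ≫ t) ((yon S).map k ≫ ē) := by
  intro T' pr σ hσ
  rw [← Category.assoc, ← Functor.map_comp]
  apply H T' (pr ≫ k) σ
  rw [hσ, Functor.map_comp, Category.assoc]

variable (hG : IsFpqcSheaf G)
  (hw : ∀ {T : Over S} (x₁ x₂ : T ⟶ W'),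
    (yon S).map x₁ ≫ u = (yon S).map x₂ ≫ u → (yon S).map x₁ ≫ w = (yon S).map x₂ ≫ w)

include sq hG in
lemma isVal_unique {T : Over S} (t : (yon S).obj T ⟶ F) (ē₁ ē₂ : (yon S).obj T ⟶ G)
    (h₁ : IsVal u w t ē₁) (h₂ : IsVal u w t ē₂) : ē₁ = ē₂ := by
  obtain ⟨r, hr⟩ := (yon S).map_surjective (t ≫ π)
  obtain ⟨σ, hσu, -⟩ := exists_lift_datum c v π u sq t r hr.symm
  obtain ⟨f1, f2, f3⟩ := fpqc_fst r c
  apply hG.hom_ext (pullback.fst r c)
  rw [h₁ _ _ σ hσu, h₂ _ _ σ hσu]

include sq hG hw in
lemma exists_isVal {T : Over S} (t : (yon S).obj T ⟶ F) :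
    ∃ ē : (yon S).obj T ⟶ G, IsVal u w t ē := by
  obtain ⟨r, hr⟩ := (yon S).map_surjective (t ≫ π)
  obtain ⟨σ₀, hσ₀u, -⟩ := exists_lift_datum c v π u sq t r hr.symm
  obtain ⟨f1, f2, f3⟩ := fpqc_fst r c
  obtain ⟨ē, hē⟩ := hG.exists_desc (pullback.fst r c) ((yon S).map σ₀ ≫ w) (by
    intro Z₁ g₁ g₂ hg
    rw [← Category.assoc, ← Category.assoc, ← Functor.map_comp, ← Functor.map_comp]
    apply hw
    rw [Functor.map_comp, Functor.map_comp, Category.assoc, Category.assoc, hσ₀u,
      ← Category.assoc, ← Category.assoc, ← Functor.map_comp, ← Functor.map_comp, hg])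
  refine ⟨ē, ?_⟩
  intro T' pr σ hσ
  obtain ⟨b1, b2, b3⟩ := fpqc_snd (pullback.fst r c) pr
  apply hG.hom_ext (pullback.snd (pullback.fst r c) pr)
  have hcond : pullback.fst (pullback.fst r c) pr ≫ pullback.fst r c =
      pullback.snd (pullback.fst r c) pr ≫ pr := pullback.condition
  have h1 : (yon S).map (pullback.snd (pullback.fst r c) pr) ≫ (yon S).map pr ≫ ē =
      (yon S).map (pullback.fst (pullback.fst r c) pr ≫ σ₀) ≫ w := by
    rw [← Category.assoc, ← Functor.map_comp, ← hcond, Functor.map_comp, Category.assoc, hē,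
      Functor.map_comp, Category.assoc]
  have h2 : (yon S).map (pullback.fst (pullback.fst r c) pr ≫ σ₀) ≫ u =
      (yon S).map (pullback.snd (pullback.fst r c) pr ≫ σ) ≫ u := by
    rw [Functor.map_comp, Category.assoc, hσ₀u, ← Category.assoc, ← Functor.map_comp, hcond,
      Functor.map_comp, Category.assoc, ← hσ, Functor.map_comp, Category.assoc]
  rw [h1, hw _ _ h2, Functor.map_comp, Category.assoc]

/-- The value of the descended map on a section. -/
noncomputable def val {T : Over S} (t : (yon S).obj T ⟶ F) : (yon S).obj T ⟶ G :=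
  (exists_isVal c v π u sq w hG hw t).choose

lemma val_spec {T : Over S} (t : (yon S).obj T ⟶ F) :
    IsVal u w t (val c v π u sq w hG hw t) :=
  (exists_isVal c v π u sq w hG hw t).choose_spec

lemma val_map {T T₁ : Over S} (k : T₁ ⟶ T) (t : (yon S).obj T ⟶ F) :
    val c v π u sq w hG hw ((yon S).map k ≫ t) = (yon S).map k ≫ val c v π u sq w hG hw t :=
  isVal_unique c v π u sq w hG _ _ _ (val_spec c v π u sq w hG hw _)
    ((val_spec c v π u sq w hG hw t).map k)

lemma val_comp_u {T : Over S} (x : T ⟶ W') :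
    val c v π u sq w hG hw ((yon S).map x ≫ u) = (yon S).map x ≫ w := by
  have h := val_spec c v π u sq w hG hw ((yon S).map x ≫ u) T (𝟙 T) x (by
    rw [CategoryTheory.Functor.map_id, Category.id_comp])
  rwa [CategoryTheory.Functor.map_id, Category.id_comp] at h

include sq hG hw in
/-- Existence: a map `h_{W'} ⟶ G` to a sheaf satisfying fpqc descent which coequalizes the
relation defined by `u : h_{W'} ⟶ F` descends to `F`. -/
theorem exists_desc_of_fpqc' : ∃ g : F ⟶ G, u ≫ g = w := by
  let nt : F.obj ⟶ G.obj :=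
    { app := fun T => TypeCat.ofHom (fun s =>
        yEquiv G T.unop (val c v π u sq w hG hw ((yEquiv F T.unop).symm s)))
      naturality := by
        intro T T₁ k
        ext s
        have hk : k = k.unop.op := rfl
        change yEquiv G T₁.unop (val c v π u sq w hG hw ((yEquiv F T₁.unop).symm (F.obj.map k s))) =
          G.obj.map k (yEquiv G T.unop (val c v π u sq w hG hw ((yEquiv F T.unop).symm s)))
        rw [hk, yEquiv_map, ← val_map]
        congr 2
        rw [Equiv.symm_apply_eq, ← yEquiv_map, Equiv.apply_symm_apply] }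
  refine ⟨ObjectProperty.homMk nt, ?_⟩
  apply hom_ext_yon
  intro T x
  obtain ⟨xh, rfl⟩ := (yon S).map_surjective x
  apply (yEquiv G T).injective
  rw [← Category.assoc, yEquiv_comp]
  change yEquiv G T (val c v π u sq w hG hw ((yEquiv F T).symm (yEquiv F T ((yon S).map xh ≫ u)))) = _
  rw [Equiv.symm_apply_apply, val_comp_u]

end desc

end

/-- A morphism from a sheaf satisfying fpqc descent to a scheme whose base change along an fpqc
covering is an isomorphism is an isomorphism. -/
theorem isIso_of_isPullback_id {S : Scheme.{u}} {F : Sp S} (hF : IsFpqcSheaf F) {M B : Over S}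
    (k : B ⟶ M) [Flat k.left] [Surjective k.left] [QuasiCompact k.left]
    (g : F ⟶ (yon S).obj M) (u : (yon S).obj B ⟶ F)
    (sq : IsPullback u (𝟙 ((yon S).obj B)) g ((yon S).map k)) : IsIso g := by
  have key : ∀ {Z : Sp S} (x : Z ⟶ F) (y : Z ⟶ (yon S).obj B), x ≫ g = y ≫ (yon S).map k →
      x = y ≫ u := by
    intro Z x y hxy
    have h1 := sq.lift_fst x y hxy
    have h2 := sq.lift_snd x y hxy
    rw [Category.comp_id] at h2
    rw [← h1, h2]
  have hug : u ≫ g = (yon S).map k := by
    rw [sq.w, Category.id_comp]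
  apply isIso_of_yon_bijective
  intro T
  constructor
  · intro t₁ t₂ ht
    dsimp only at ht
    obtain ⟨m, hm⟩ := (yon S).map_surjective (t₁ ≫ g)
    obtain ⟨f1, f2, f3⟩ := fpqc_fst m k
    have hc : (yon S).map (pullback.fst m k) ≫ (yon S).map m =
        (yon S).map (pullback.snd m k) ≫ (yon S).map k := by
      rw [← Functor.map_comp, ← Functor.map_comp, pullback.condition]
    apply hF.hom_ext (pullback.fst m k)
    rw [key ((yon S).map (pullback.fst m k) ≫ t₁) ((yon S).map (pullback.snd m k))
        (by rw [Category.assoc, ← hm, hc]),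
      key ((yon S).map (pullback.fst m k) ≫ t₂) ((yon S).map (pullback.snd m k))
        (by rw [Category.assoc, ← ht, ← hm, hc])]
  · intro y
    obtain ⟨m, rfl⟩ := (yon S).map_surjective y
    obtain ⟨f1, f2, f3⟩ := fpqc_fst m k
    have hc : (yon S).map (pullback.fst m k) ≫ (yon S).map m =
        (yon S).map (pullback.snd m k) ≫ (yon S).map k := by
      rw [← Functor.map_comp, ← Functor.map_comp, pullback.condition]
    obtain ⟨t, ht⟩ := hF.exists_desc (pullback.fst m k) ((yon S).map (pullback.snd m k) ≫ u) (by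
      intro Z₁ g₁ g₂ hg
      rw [← Category.assoc, ← Category.assoc]
      apply key
      have e1 : (yon S).map g₁ ≫ (yon S).map (pullback.fst m k) =
          (yon S).map g₂ ≫ (yon S).map (pullback.fst m k) := by
        rw [← Functor.map_comp, ← Functor.map_comp, hg]
      calc (((yon S).map g₁ ≫ (yon S).map (pullback.snd m k)) ≫ u) ≫ g
          = (yon S).map g₁ ≫ ((yon S).map (pullback.snd m k) ≫ (yon S).map k) := by
            rw [Category.assoc, Category.assoc, hug]
        _ = ((yon S).map g₁ ≫ (yon S).map (pullback.fst m k)) ≫ (yon S).map m := by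
            rw [← hc, Category.assoc]
        _ = ((yon S).map g₂ ≫ (yon S).map (pullback.fst m k)) ≫ (yon S).map m := by rw [e1]
        _ = ((yon S).map g₂ ≫ (yon S).map (pullback.snd m k)) ≫ (yon S).map k := by
            rw [Category.assoc, hc, Category.assoc])
    refine ⟨t, ?_⟩
    apply (isFpqcSheaf_yon M).hom_ext (pullback.fst m k)
    rw [← Category.assoc, ht, Category.assoc, hug, hc]

end Groth.Agent.H3.DescSh
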