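import Groth.Agent.Lib.Helper3.DescSh.Key
import Mathlib

/-!
# Representability of the sheaf of a descent datum and effectiveness (helper3)

* `isPullback_kap`: the base change of the sheaf `FDSh D` to the member `X i` of the family is
  represented by `D.obj i`.
* `isEffective_of_iso`: if `FDSh D` is representable, then `D` is effective.
-/

set_option autoImplicit false
set_option backward.isDefEq.respectTransparency false
set_option backward.isDefEq.respectTransparency.types false

universe u

open CategoryTheory CategoryTheory.Limits AlgebraicGeometry Opposite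

namespace Groth.Agent.H3.DescSh

open _root_.Desc _root_.AlgSp Groth.Agent.H5.Desc Groth.Agent.H5.AlgSp

variable {S : Scheme.{u}} {ι : Type u} {X : ι → Scheme.{u}} {f : ∀ i, X i ⟶ S}

/-- The terminal sheaf `h_S`. -/
noncomputable abbrev pt (S : Scheme.{u}) : Sp S := (yon S).obj (Over.mk (𝟙 S))

/-- `h_S` is terminal. -/
noncomputable def ptIsTerminal (S : Scheme.{u}) : IsTerminal (pt S) :=
  IsTerminal.isTerminalObj (yon S) _ Over.mkIdTerminal

/-- The unique morphism from an `S`-scheme to `S`. -/
def toBase (T : Over S) : T ⟶ Over.mk (𝟙 S) := Over.homMk T.hom (by simp)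

@[simp] lemma toBase_left (T : Over S) : (toBase T).left = T.hom := rfl

/-- `X i` as a scheme over `S`. -/
abbrev XO (f : ∀ i, X i ⟶ S) (i : ι) : Over S := Over.mk (f i)

/-- The `i`-th member of a descent datum as a scheme over `S`. -/
abbrev DO (D : SchDDFam f) (i : ι) : Over S := Over.mk ((D.obj i).hom ≫ f i)

/-- Its structure morphism, over `S`. -/
def dO (D : SchDDFam f) (i : ι) : DO D i ⟶ XO f i := Over.homMk (D.obj i).hom rfl

@[simp] lemma dO_left (D : SchDDFam f) (i : ι) : (dO D i).left = (D.obj i).hom := rfl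

lemma push_comp {D D' D'' : SchDDFam f} (g : D ⟶ D') (a : D' ⟶ D'') {T : Scheme.{u}} {i : ι}
    {x : T ⟶ X i} (v : Lifts (D.obj i) x) :
    SchDDFam.Hom.push (g ≫ a) v = SchDDFam.Hom.push a (SchDDFam.Hom.push g v) :=
  Subtype.ext (by simp only [push_val, SchDDFam.comp_hom, Over.comp_left, Category.assoc])

/-- Morphisms from a representable sheaf to the sheaf of `D` are morphisms of descent data. -/
noncomputable def secEquiv (D : SchDDFam f) (T : Over S) :
    ((yon S).obj T ⟶ FDSh D) ≃ ((toDDFam f).obj T ⟶ D) :=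
  (yEquiv (FDSh D) T).trans (Equiv.ulift : ULift.{u + 1} ((toDDFam f).obj T ⟶ D) ≃ _)

lemma secEquiv_map (D : SchDDFam f) {T T' : Over S} (t : T' ⟶ T)
    (s : (yon S).obj T ⟶ FDSh D) :
    secEquiv D T' ((yon S).map t ≫ s) = (toDDFam f).map t ≫ secEquiv D T s := by
  change (yEquiv (FDSh D) T' ((yon S).map t ≫ s)).down = _
  rw [← yEquiv_map]
  rfl

/-- The tautological section of the sheaf of `D` over `D.obj i`. -/
noncomputable def kap (D : SchDDFam f) (i : ι) : (yon S).obj (DO D i) ⟶ FDSh D :=
  (secEquiv D (DO D i)).symm (Kmk D (DO D i) (D.obj i).hom rfl (Lifts.univ (D.obj i)))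

lemma secEquiv_kap (D : SchDDFam f) (i : ι) :
    secEquiv D (DO D i) (kap D i) =
      Kmk D (DO D i) (D.obj i).hom rfl (Lifts.univ (D.obj i)) :=
  Equiv.apply_symm_apply _ _

lemma secEquiv_map_kap (D : SchDDFam f) (i : ι) {T : Over S} (z : T ⟶ DO D i)
    (xb : T.left ⟶ X i) (hz : z.left ≫ (D.obj i).hom = xb) (hxb : xb ≫ f i = T.hom) :
    secEquiv D T ((yon S).map z ≫ kap D i) = Kmk D T xb hxb ⟨z.left, hz⟩ := by
  rw [secEquiv_map, secEquiv_kap,
    map_Kmk D (DO D i) (D.obj i).hom rfl z (Lifts.univ (D.obj i)) xb hz hxb]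
  congr 1

/-- **The base change of the sheaf of `D` to `X i` is represented by `D.obj i`.** -/
theorem isPullback_kap (D : SchDDFam f) (i : ι) :
    IsPullback (kap D i) ((yon S).map (dO D i)) ((ptIsTerminal S).from (FDSh D))
      ((yon S).map (toBase (XO f i))) := by
  apply isPullback_of_yon ((ptIsTerminal S).hom_ext _ _)
  intro T x y _
  obtain ⟨yh, rfl⟩ := (yon S).map_surjective y
  have hxb : yh.left ≫ f i = T.hom := Over.w yh
  have hwS : (Kinv D T yh.left hxb (secEquiv D T x)).1 ≫ (DO D i).hom = T.hom := by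
    change (Kinv D T yh.left hxb (secEquiv D T x)).1 ≫ (D.obj i).hom ≫ f i = T.hom
    rw [← Category.assoc, (Kinv D T yh.left hxb (secEquiv D T x)).2, hxb]
  let z : T ⟶ DO D i := Over.homMk (Kinv D T yh.left hxb (secEquiv D T x)).1 hwS
  have hzl : z.left ≫ (D.obj i).hom = yh.left := (Kinv D T yh.left hxb (secEquiv D T x)).2
  have hzd : z ≫ dO D i = yh := Over.OverMorphism.ext hzl
  refine ⟨(yon S).map z, ⟨?_, ?_⟩, ?_⟩
  · apply (secEquiv D T).injective
    rw [secEquiv_map_kap D i z yh.left hzl hxb]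
    have h0 : (⟨z.left, hzl⟩ : Lifts (D.obj i) yh.left) = Kinv D T yh.left hxb (secEquiv D T x) :=
      Subtype.ext rfl
    rw [h0, Kmk_Kinv]
  · rw [← Functor.map_comp, hzd]
  · rintro z' ⟨hz'1, hz'2⟩
    obtain ⟨zh, rfl⟩ := (yon S).map_surjective z'
    have hzh : zh ≫ dO D i = yh :=
      (yon S).map_injective (by rw [Functor.map_comp, hz'2])
    have hzhl : zh.left ≫ (D.obj i).hom = yh.left := congrArg (fun m => m.left) hzh
    congr 1
    have h1 := secEquiv_map_kap D i zh yh.left hzhl hxb
    rw [hz'1] at h1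
    have h2 : Kinv D T yh.left hxb (secEquiv D T x) = ⟨zh.left, hzhl⟩ := by
      rw [h1, Kinv_Kmk]
    apply Over.OverMorphism.ext
    exact (congrArg Subtype.val h2).symm

/-- The base change of the sheaf of `D` to a scheme over `X i`. -/
theorem isPullback_of_hom (D : SchDDFam f) (i : ι) {W : Over S} (r : W ⟶ XO f i) :
    IsPullback ((yon S).map (pullback.fst (dO D i) r) ≫ kap D i)
      ((yon S).map (pullback.snd (dO D i) r))
      ((ptIsTerminal S).from (FDSh D)) ((yon S).map (toBase W)) := by
  have h1 := ((IsPullback.of_hasPullback (dO D i) r).map (yon S)).paste_horiz (isPullback_kap D i)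
  have h2 : (yon S).map r ≫ (yon S).map (toBase (XO f i)) = (yon S).map (toBase W) :=
    (ptIsTerminal S).hom_ext _ _
  rwa [h2] at h1

/-- The morphism over `S` attached to a lift into a canonical descent datum. -/
noncomputable def liftHom (Y : Over S) {T : Scheme.{u}} {i : ι} {x : T ⟶ X i}
    (v : Lifts ((canonicalDDFam f Y).obj i) x) : Over.mk (x ≫ f i) ⟶ Y :=
  Over.homMk (v.1 ≫ pullback.snd (f i) Y.hom) (lift_cond v).symm

lemma Kinv_map_liftHom (D : SchDDFam f) (Y : Over S) (a : (toDDFam f).obj Y ⟶ D)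
    {T : Scheme.{u}} {i : ι} {x : T ⟶ X i} (v : Lifts ((canonicalDDFam f Y).obj i) x) :
    Kinv D (Over.mk (x ≫ f i)) x rfl ((toDDFam f).map (liftHom Y v) ≫ a) =
      SchDDFam.Hom.push a v := by
  unfold Kinv
  rw [push_comp]
  congr 1
  exact push_map_secLift v (x ≫ f i) (lift_cond v).symm rfl

/-- **If the sheaf of a descent datum is representable, the descent datum is effective.** -/
theorem isEffective_of_iso (D : SchDDFam f) {Y : Over S} (e : (yon S).obj Y ≅ FDSh D) :
    D.IsEffective := by
  let a : (toDDFam f).obj Y ⟶ D := secEquiv D Y e.hom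
  have hA : ∀ {T : Over S} (t : T ⟶ Y),
      secEquiv D T ((yon S).map t ≫ e.hom) = (toDDFam f).map t ≫ a :=
    fun t => secEquiv_map D t e.hom
  have hbij : ∀ ⦃T : Scheme.{u}⦄ ⦃i : ι⦄ (x : T ⟶ X i),
      Function.Bijective
        (fun v : Lifts (((toDDFam f).obj Y).obj i) x => SchDDFam.Hom.push a v) := by
    intro T i x
    constructor
    · intro v v' hvv
      dsimp only at hvv
      have ht : liftHom Y v = liftHom Y v' := by
        apply (yon S).map_injective
        rw [← cancel_mono e.hom]
        apply (secEquiv D _).injective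
        rw [hA, hA]
        apply (Kequiv D (Over.mk (x ≫ f i)) x rfl).symm.injective
        change Kinv D (Over.mk (x ≫ f i)) x rfl ((toDDFam f).map (liftHom Y v) ≫ a) =
          Kinv D (Over.mk (x ≫ f i)) x rfl ((toDDFam f).map (liftHom Y v') ≫ a)
        rw [Kinv_map_liftHom, Kinv_map_liftHom, hvv]
      apply Subtype.ext
      apply pullback.hom_ext
      · exact v.2.trans v'.2.symm
      · exact congrArg (fun m => m.left) ht
    · intro w
      let b : (yon S).obj (Over.mk (x ≫ f i)) ⟶ FDSh D :=
        (secEquiv D (Over.mk (x ≫ f i))).symm (Kmk D (Over.mk (x ≫ f i)) x rfl w)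
      let t : Over.mk (x ≫ f i) ⟶ Y := (yon S).preimage (b ≫ e.inv)
      have ht : (yon S).map t ≫ e.hom = b := by
        rw [Functor.map_preimage, Category.assoc, e.inv_hom_id, Category.comp_id]
      have htS : x ≫ f i = t.left ≫ Y.hom := (Over.w t).symm
      let v : Lifts (((toDDFam f).obj Y).obj i) x :=
        ⟨pullback.lift x t.left htS, pullback.lift_fst _ _ _⟩
      have hv : liftHom Y v = t := Over.OverMorphism.ext (pullback.lift_snd _ _ _)
      refine ⟨v, ?_⟩
      change SchDDFam.Hom.push a v = w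
      have hb : secEquiv D (Over.mk (x ≫ f i)) b = Kmk D (Over.mk (x ≫ f i)) x rfl w :=
        Equiv.apply_symm_apply _ _
      rw [← Kinv_map_liftHom D Y a v, hv, ← hA, ht, hb, Kinv_Kmk]
  refine ⟨Y, ⟨isoMk ((toDDFam f).obj Y) D (fun T i x => Equiv.ofBijective _ (hbij x)) ?_ ?_⟩⟩
  · intro T T' g i x y hy v
    exact congrArg Subtype.val (push_res a g x y hy v)
  · intro T i j x₀ x₁ h v
    exact comm_push a x₀ x₁ h v

end Groth.Agent.H3.DescSh
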