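import Groth.Agent.Lib.Helper3.DescSh.FpqcShOpen
import Groth.Agent.Lib.Helper3.DescSh.Rep
import Groth.Agent.Lib.Helper5.AlgSp.LocalRep
import Groth.Agent.Lib.Helper5.AlgSp.IntegralMor
import Groth.Agent.Lib.Helper5.AlgSp.Points
import Mathlib

/-!
# Gluing effective open sub-descent data (helper3)

A descent datum relative to a flat, surjective, quasi-compact morphism which is covered by open
sub-descent data which are effective is effective.
-/

set_option autoImplicit false
set_option backward.isDefEq.respectTransparency false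
set_option backward.isDefEq.respectTransparency.types false

universe u

open CategoryTheory CategoryTheory.Limits AlgebraicGeometry Opposite

namespace Groth.Agent.H3.DescSh

open _root_.AlgSp Groth.Agent.H5.AlgSp _root_.Desc Groth.Agent.H5.Desc

variable {S : Scheme.{u}}

/-- The base change of a chart `κ : h_V ⟶ F` with `h_V = F ×_pt h_X` along a map from a
representable sheaf. -/
theorem exists_isPullback_of_base {F : Sp S} {XO' VO' : Over S} (d : VO' ⟶ XO')
    (κ : (yon S).obj VO' ⟶ F)
    (sq : IsPullback κ ((yon S).map d) ((ptIsTerminal S).from F) ((yon S).map (toBase XO')))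
    {T : Over S} (g : (yon S).obj T ⟶ F) :
    ∃ l : pullback (toBase XO') (toBase T) ⟶ VO',
      l ≫ d = pullback.fst (toBase XO') (toBase T) ∧
      IsPullback ((yon S).map l) ((yon S).map (pullback.snd (toBase XO') (toBase T))) κ g := by
  have hw : ((yon S).map (pullback.snd (toBase XO') (toBase T)) ≫ g) ≫ (ptIsTerminal S).from F =
      (yon S).map (pullback.fst (toBase XO') (toBase T)) ≫ (yon S).map (toBase XO') :=
    (ptIsTerminal S).hom_ext _ _
  obtain ⟨l, hl⟩ := (yon S).map_surjective (sq.lift _ _ hw)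
  have hl1 : (yon S).map l ≫ κ = (yon S).map (pullback.snd (toBase XO') (toBase T)) ≫ g := by
    rw [hl, sq.lift_fst]
  have hl2 : l ≫ d = pullback.fst (toBase XO') (toBase T) := by
    apply (yon S).map_injective
    rw [Functor.map_comp, hl, sq.lift_snd]
  refine ⟨l, hl2, ?_⟩
  refine IsPullback.of_right ?_ hl1 sq.flip
  have e1 : (yon S).map l ≫ (yon S).map d = (yon S).map (pullback.fst (toBase XO') (toBase T)) := by
    rw [← Functor.map_comp, hl2]
  have e2 : g ≫ (ptIsTerminal S).from F = (yon S).map (toBase T) := (ptIsTerminal S).hom_ext _ _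
  rw [e1, e2]
  exact (IsPullback.of_hasPullback (toBase XO') (toBase T)).map (yon S)

variable {ι : Type u} {X : ι → Scheme.{u}} {f : ∀ i, X i ⟶ S}

/-- `X i ×_S Y` as a scheme over `S`. -/
noncomputable abbrev PC (f : ∀ i, X i ⟶ S) (i : ι) (Y : Over S) : Over S :=
  Over.mk (pullback.fst (f i) Y.hom ≫ f i)

/-- first projection -/
noncomputable def pc₁ (f : ∀ i, X i ⟶ S) (i : ι) (Y : Over S) : PC f i Y ⟶ XO f i :=
  Over.homMk (pullback.fst (f i) Y.hom) rfl

/-- second projection -/
noncomputable def pc₂ (f : ∀ i, X i ⟶ S) (i : ι) (Y : Over S) : PC f i Y ⟶ Y :=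
  Over.homMk (pullback.snd (f i) Y.hom) pullback.condition.symm

@[simp] lemma pc₁_left (i : ι) (Y : Over S) : (pc₁ f i Y).left = pullback.fst (f i) Y.hom := rfl

@[simp] lemma pc₂_left (i : ι) (Y : Over S) : (pc₂ f i Y).left = pullback.snd (f i) Y.hom := rfl

lemma isPullback_PC (i : ι) (Y : Over S) :
    IsPullback (pc₁ f i Y) (pc₂ f i Y) (toBase (XO f i)) (toBase Y) := by
  apply IsPullback.of_map_of_faithful (Over.forget S)
  exact IsPullback.of_hasPullback (f i) Y.hom

/-- The morphism `X i ×_S Y ⟶ D.obj i` underlying a morphism of descent data. -/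
noncomputable def lC (D : SchDDFam f) (i : ι) (Y : Over S) (a : (toDDFam f).obj Y ⟶ D) :
    PC f i Y ⟶ DO D i :=
  Over.homMk (a.hom i).left (by
    change (a.hom i).left ≫ (D.obj i).hom ≫ f i = pullback.fst (f i) Y.hom ≫ f i
    rw [← Category.assoc, Over.w (a.hom i)]
    rfl)

@[simp] lemma lC_left (D : SchDDFam f) (i : ι) (Y : Over S) (a : (toDDFam f).obj Y ⟶ D) :
    (lC D i Y a).left = (a.hom i).left := rfl

lemma lC_comp_dO (D : SchDDFam f) (i : ι) (Y : Over S) (a : (toDDFam f).obj Y ⟶ D) :
    lC D i Y a ≫ dO D i = pc₁ f i Y :=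
  Over.OverMorphism.ext (Over.w (a.hom i))

/-- The chart of the sheaf of `D` and the section attached to a morphism of descent data from a
canonical descent datum are compatible. -/
lemma lC_kap (D : SchDDFam f) (i : ι) (Y : Over S) (a : (toDDFam f).obj Y ⟶ D) :
    (yon S).map (lC D i Y a) ≫ kap D i = (yon S).map (pc₂ f i Y) ≫ (secEquiv D Y).symm a := by
  apply (secEquiv D (PC f i Y)).injective
  rw [secEquiv_map_kap D i (lC D i Y a) (pullback.fst (f i) Y.hom) (Over.w (a.hom i)) rfl,
    secEquiv_map, Equiv.apply_symm_apply]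
  apply (Kequiv D (PC f i Y) (pullback.fst (f i) Y.hom) rfl).symm.injective
  change Kinv D (PC f i Y) (pullback.fst (f i) Y.hom) rfl _ =
    Kinv D (PC f i Y) (pullback.fst (f i) Y.hom) rfl _
  rw [Kinv_Kmk]
  let v : Lifts ((canonicalDDFam f Y).obj i) (pullback.fst (f i) Y.hom) :=
    ⟨𝟙 _, Category.id_comp _⟩
  have hp : pc₂ f i Y = liftHom Y v :=
    Over.OverMorphism.ext (Category.id_comp _).symm
  rw [hp, Kinv_map_liftHom D Y a v]
  exact Subtype.ext (Category.id_comp _).symm

/-- The square attached to a morphism of descent data from a canonical descent datum. -/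
theorem isPullback_lC (D : SchDDFam f) (i : ι) (Y : Over S) (a : (toDDFam f).obj Y ⟶ D) :
    IsPullback ((yon S).map (lC D i Y a)) ((yon S).map (pc₂ f i Y)) (kap D i)
      ((secEquiv D Y).symm a) := by
  refine IsPullback.of_right ?_ (lC_kap D i Y a) (isPullback_kap D i).flip
  have e1 : (yon S).map (lC D i Y a) ≫ (yon S).map (dO D i) = (yon S).map (pc₁ f i Y) := by
    rw [← Functor.map_comp, lC_comp_dO]
  have e2 : (secEquiv D Y).symm a ≫ (ptIsTerminal S).from (FDSh D) = (yon S).map (toBase Y) :=
    (ptIsTerminal S).hom_ext _ _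
  rw [e1, e2]
  exact (isPullback_PC i Y).map (yon S)

/-- The section of the sheaf of `D` attached to an open immersion of descent data from a canonical
descent datum is an open immersion. -/
theorem repWith_isOpenImmersion_secEquiv_symm (D : SchDDFam f) (i : ι) [Flat (f i)]
    [Surjective (f i)] [QuasiCompact (f i)] (Y : Over S) (a : (toDDFam f).obj Y ⟶ D)
    (ha : IsOpenImmersion (a.hom i).left) :
    RepWith @IsOpenImmersion ((secEquiv D Y).symm a) := by
  refine repWith_of_forall_affine_exists @IsOpenImmersion (fun T _ g => ?_)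
  obtain ⟨lT, -, sqT⟩ := exists_isPullback_of_base (dO D i) (kap D i) (isPullback_kap D i) g
  set p₂ := pullback.snd (toBase (XO f i)) (toBase T) with hp₂
  have hp₂1 : Flat p₂.left := by
    rw [hp₂, left_pullback_snd_iff @Flat]
    exact MorphismProperty.pullback_snd (P := @Flat) _ _ (inferInstanceAs (Flat (f i)))
  have hp₂2 : Surjective p₂.left := by
    rw [hp₂, left_pullback_snd_iff @Surjective]
    exact MorphismProperty.pullback_snd (P := @Surjective) _ _
      (inferInstanceAs (Surjective (f i)))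
  have hp₂3 : QuasiCompact p₂.left := by
    rw [hp₂, left_pullback_snd_iff @QuasiCompact]
    exact MorphismProperty.pullback_snd (P := @QuasiCompact) _ _
      (inferInstanceAs (QuasiCompact (f i)))
  set jW := pullback.snd (lC D i Y a) lT with hjW
  have hjWo : IsOpenImmersion jW.left := by
    rw [hjW, left_pullback_snd_iff @IsOpenImmersion]
    have : IsOpenImmersion (lC D i Y a).left := ha
    infer_instance
  have big : IsPullback ((yon S).map (pullback.fst (lC D i Y a) lT) ≫ (yon S).map (pc₂ f i Y))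
      ((yon S).map jW) ((secEquiv D Y).symm a) ((yon S).map lT ≫ kap D i) :=
    ((IsPullback.of_hasPullback (lC D i Y a) lT).map (yon S)).paste_horiz
      (isPullback_lC D i Y a).flip
  rw [sqT.w] at big
  have hw : ((yon S).map (pullback.fst (lC D i Y a) lT) ≫ (yon S).map (pc₂ f i Y)) ≫
      (secEquiv D Y).symm a = ((yon S).map jW ≫ (yon S).map p₂) ≫ g := by
    rw [big.w, Category.assoc]
  have sqG := IsPullback.of_hasPullback ((secEquiv D Y).symm a) g
  have hu1 : pullback.lift _ _ hw ≫ pullback.fst ((secEquiv D Y).symm a) g =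
      (yon S).map (pullback.fst (lC D i Y a) lT) ≫ (yon S).map (pc₂ f i Y) :=
    pullback.lift_fst _ _ _
  have hu2 : pullback.lift _ _ hw ≫ pullback.snd ((secEquiv D Y).symm a) g =
      (yon S).map jW ≫ (yon S).map p₂ := pullback.lift_snd _ _ _
  have sqTop : IsPullback (pullback.lift _ _ hw) ((yon S).map jW)
      (pullback.snd ((secEquiv D Y).symm a) g) ((yon S).map p₂) := by
    refine IsPullback.of_right ?_ hu2 sqG
    rw [hu1]
    exact big
  have hG : IsFpqcSheaf (pullback ((secEquiv D Y).symm a) g) :=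
    isFpqcSheaf_of_isPullback sqG (isFpqcSheaf_yon Y) (isFpqcSheaf_FDSh D) (isFpqcSheaf_yon T)
  obtain ⟨U, iU, e, w', hi, hei, -⟩ := exists_open_descent hG p₂ jW
    (pullback.snd ((secEquiv D Y).symm a) g) (pullback.lift _ _ hw) sqTop
  refine ⟨U, iU, e.hom ≫ pullback.fst ((secEquiv D Y).symm a) g, ?_, hi⟩
  refine IsPullback.of_iso sqG e.symm (Iso.refl _) (Iso.refl _) (Iso.refl _) (by simp) ?_
    (by simp) (by simp)
  rw [Iso.refl_hom, Category.comp_id, Iso.symm_hom, ← hei, Iso.inv_hom_id_assoc]

/-- **A descent datum relative to a flat, surjective, quasi-compact morphism which is covered by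
effective open sub-descent data is effective.** -/
theorem effective_of_locally_effective {X₀ : Scheme.{u}} (p : X₀ ⟶ S) [Surjective p] [Flat p]
    [QuasiCompact p] (D : SchDD p)
    (h : ∀ v : D.obj.left, ∃ (D' : SchDD p) (j : D' ⟶ D), IsOpenImmersion j.hom.left ∧
      v ∈ Set.range j.hom.left.base ∧ ∃ U' : Over S, Nonempty ((toDD p).obj U' ≅ D')) :
    ∃ U : Over S, Nonempty ((toDD p).obj U ≅ D) := by
  choose D' j hjo hjv U' hE using h
  have E : ∀ v, (toDD p).obj (U' v) ≅ D' v := fun v => (hE v).some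
  let Df : SchDDFam (fun _ : PUnit.{u + 1} => p) := (SchDDFam.ofSchDD.{u} p).obj D
  let a : ∀ v, (toDDFam (fun _ : PUnit.{u + 1} => p)).obj (U' v) ⟶ Df :=
    fun v => (SchDDFam.ofSchDD.{u} p).map ((E v).hom ≫ j v)
  have hal : ∀ v, ((a v).hom PUnit.unit).left = (E v).hom.hom.left ≫ (j v).hom.left := fun v => rfl
  have i1 : Flat ((fun _ : PUnit.{u + 1} => p) PUnit.unit) := inferInstanceAs (Flat p)
  have i2 : Surjective ((fun _ : PUnit.{u + 1} => p) PUnit.unit) :=
    inferInstanceAs (Surjective p)
  have i3 : QuasiCompact ((fun _ : PUnit.{u + 1} => p) PUnit.unit) :=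
    inferInstanceAs (QuasiCompact p)
  have hiso : ∀ v, IsIso (E v).hom.hom.left := fun v => by
    refine ⟨(E v).inv.hom.left, ?_, ?_⟩
    · exact congrArg (fun m => m.hom.left) (E v).hom_inv_id
    · exact congrArg (fun m => m.hom.left) (E v).inv_hom_id
  have hρ : ∀ v, RepWith @IsOpenImmersion ((secEquiv Df (U' v)).symm (a v)) := by
    intro v
    apply repWith_isOpenImmersion_secEquiv_symm Df PUnit.unit (U' v) (a v)
    rw [hal]
    have := hjo v
    have := hiso v
    infer_instance
  have hκ : RepWith @Surjective (kap Df PUnit.unit) :=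
    MorphismProperty.of_isPullback (P := RepWith @Surjective) (isPullback_kap Df PUnit.unit).flip
      ((repWith_yon_map_iff @Surjective _).2 (inferInstanceAs (Surjective p)))
  have hsurj : ∀ x : Points (FDSh Df), ∃ (v : D.obj.left) (pt : ↥(U' v).left),
      Points.ofPt ((secEquiv Df (U' v)).symm (a v)) pt = x := by
    intro x
    have hv : ∃ v₀ : ↥D.obj.left, Points.ofPt (kap Df PUnit.unit) v₀ = x :=
      ofPt_surjective_of_repWith hκ x
    obtain ⟨v₀, rfl⟩ := hv
    obtain ⟨y, hy⟩ := hjv v₀
    have := hiso v₀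
    let w₀ : ↥(PC (fun _ : PUnit.{u + 1} => p) PUnit.unit (U' v₀)).left :=
      (inv (E v₀).hom.hom.left) y
    have h1 : inv (E v₀).hom.hom.left ≫ (lC Df PUnit.unit (U' v₀) (a v₀)).left =
        (j v₀).hom.left := by
      rw [lC_left, hal, IsIso.inv_hom_id_assoc]
    have hw₀ : (lC Df PUnit.unit (U' v₀) (a v₀)).left w₀ = v₀ := by
      have h2 : (inv (E v₀).hom.hom.left ≫ (lC Df PUnit.unit (U' v₀) (a v₀)).left) y = v₀ := by
        rw [h1]
        exact hy
      exact h2
    refine ⟨v₀, (pc₂ (fun _ : PUnit.{u + 1} => p) PUnit.unit (U' v₀)).left w₀, ?_⟩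
    rw [← ofPt_yon_map_comp, ← lC_kap, ofPt_yon_map_comp, hw₀]
  obtain ⟨Y, e, -⟩ := LocalRep.exists_iso hρ hsurj
  obtain ⟨Y', ⟨E'⟩⟩ := isEffective_of_iso Df e
  exact ⟨Y', ⟨(SchDDFam.toSchDD.{u} p).mapIso E'⟩⟩

end Groth.Agent.H3.DescSh
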