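import Groth.Agent.Lib.Helper3.DescSh.Sheaf
import Mathlib

/-!
# The sheaf of a descent datum restricted to a member of the family (helper3)

Sections of `FD D` over a scheme `T` mapping to `X i` are the lifts of `T ⟶ X i` to `D.obj i`.
-/

set_option autoImplicit false
set_option backward.isDefEq.respectTransparency false
set_option backward.isDefEq.respectTransparency.types false

universe u

open CategoryTheory CategoryTheory.Limits AlgebraicGeometry Opposite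

namespace Groth.Agent.H3.DescSh

open _root_.Desc Groth.Agent.H5.Desc

variable {S : Scheme.{u}} {ι : Type u} {X : ι → Scheme.{u}} {f : ∀ i, X i ⟶ S}

lemma φ_congr_left (D : SchDDFam f) {T₀ : Scheme.{u}} {i j : ι} (x₀ x₀' : T₀ ⟶ X i)
    (hx : x₀ = x₀') (y : T₀ ⟶ X j) (h : x₀ ≫ f i = y ≫ f j) (h' : x₀' ≫ f i = y ≫ f j)
    (v : Lifts (D.obj i) x₀) (v' : Lifts (D.obj i) x₀') (hv : v.1 = v'.1) :
    D.φ x₀ y h v = D.φ x₀' y h' v' := by
  subst hx
  have : v = v' := Subtype.ext hv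
  subst this
  rfl

section K

variable (D : SchDDFam f) (T : Over S) {i : ι} (xb : T.left ⟶ X i) (hxb : xb ≫ f i = T.hom)

include hxb in
lemma K_cond {T₀ : Scheme.{u}} {j : ι} {y : T₀ ⟶ X j}
    (v : Lifts ((canonicalDDFam f T).obj j) y) :
    ((v.1 ≫ pullback.snd (f j) T.hom) ≫ xb) ≫ f i = y ≫ f j := by
  rw [Category.assoc, hxb, ← lift_cond v]

/-- The value of the section attached to a lift `w` on a lift `v`. -/
noncomputable def Ke (w : Lifts (D.obj i) xb) ⦃T₀ : Scheme.{u}⦄ ⦃j : ι⦄ (y : T₀ ⟶ X j)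
    (v : Lifts ((canonicalDDFam f T).obj j) y) : Lifts (D.obj j) y :=
  D.φ ((v.1 ≫ pullback.snd (f j) T.hom) ≫ xb) y (K_cond T xb hxb v)
    (Lifts.res (v.1 ≫ pullback.snd (f j) T.hom) w rfl)

lemma Ke_nat (w : Lifts (D.obj i) xb) ⦃T₀ T₀' : Scheme.{u}⦄ (h : T₀' ⟶ T₀) ⦃j : ι⦄
    (y : T₀ ⟶ X j) (y' : T₀' ⟶ X j) (hy : h ≫ y = y')
    (v : Lifts ((canonicalDDFam f T).obj j) y) :
    (Ke D T xb hxb w y' (Lifts.res h v hy)).1 = h ≫ (Ke D T xb hxb w y v).1 := by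
  unfold Ke
  have h0 : h ≫ (v.1 ≫ pullback.snd (f j) T.hom) ≫ xb =
      ((Lifts.res h v hy).1 ≫ pullback.snd (f j) T.hom) ≫ xb := by simp
  have := φ_res D h ((v.1 ≫ pullback.snd (f j) T.hom) ≫ xb) y (K_cond T xb hxb v)
    (((Lifts.res h v hy).1 ≫ pullback.snd (f j) T.hom) ≫ xb) y' h0 hy
    (K_cond T xb hxb (Lifts.res h v hy)) (Lifts.res (v.1 ≫ pullback.snd (f j) T.hom) w rfl)
  have e2 : Lifts.res ((Lifts.res h v hy).1 ≫ pullback.snd (f j) T.hom) w rfl =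
      Lifts.res h (Lifts.res (v.1 ≫ pullback.snd (f j) T.hom) w rfl) h0 :=
    Subtype.ext (by simp)
  rw [e2, this]
  rfl

lemma Ke_comm (w : Lifts (D.obj i) xb) ⦃T₀ : Scheme.{u}⦄ ⦃j k : ι⦄ (y₀ : T₀ ⟶ X j)
    (y₁ : T₀ ⟶ X k) (h : y₀ ≫ f j = y₁ ≫ f k) (v : Lifts ((canonicalDDFam f T).obj j) y₀) :
    D.φ y₀ y₁ h (Ke D T xb hxb w y₀ v) =
      Ke D T xb hxb w y₁ ((canonicalDDFam f T).φ y₀ y₁ h v) := by
  unfold Ke
  rw [D.φ_comp]
  apply φ_congr_left
  · rw [canφ_snd]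
  · simp only [Lifts.res_val]
    rw [canφ_snd]

/-- The section of `FD D` over `T` attached to a lift of `T ⟶ X i` to `D.obj i`. -/
noncomputable def Kmk (w : Lifts (D.obj i) xb) : (toDDFam f).obj T ⟶ D :=
  homMk (canonicalDDFam f T) D (Ke D T xb hxb w) (Ke_nat D T xb hxb w) (Ke_comm D T xb hxb w)

lemma push_Kmk (w : Lifts (D.obj i) xb) {T₀ : Scheme.{u}} {j : ι} (y : T₀ ⟶ X j)
    (v : Lifts ((canonicalDDFam f T).obj j) y) :
    SchDDFam.Hom.push (Kmk D T xb hxb w) v = Ke D T xb hxb w y v :=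
  Subtype.ext (homMk_spec (canonicalDDFam f T) D (Ke D T xb hxb w) (Ke_nat D T xb hxb w)
    (Ke_comm D T xb hxb w) y v)

/-- The tautological lift of `xb`. -/
noncomputable def secT : Lifts ((canonicalDDFam f T).obj i) xb :=
  ⟨pullback.lift xb (𝟙 T.left) (by simpa using hxb), pullback.lift_fst _ _ _⟩

@[simp] lemma secT_snd : (secT T xb hxb).1 ≫ pullback.snd (f i) T.hom = 𝟙 _ :=
  pullback.lift_snd _ _ _

/-- The lift attached to a section. -/
noncomputable def Kinv (a : (toDDFam f).obj T ⟶ D) : Lifts (D.obj i) xb :=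
  SchDDFam.Hom.push a (secT T xb hxb)

lemma Kinv_Kmk (w : Lifts (D.obj i) xb) : Kinv D T xb hxb (Kmk D T xb hxb w) = w := by
  unfold Kinv
  rw [push_Kmk]
  unfold Ke
  have h1 : ((secT T xb hxb).1 ≫ pullback.snd (f i) T.hom) ≫ xb = xb := by
    rw [secT_snd, Category.id_comp]
  rw [φ_congr_left D _ xb h1 xb _ rfl _ w (by simp), D.φ_self]

lemma Kmk_Kinv (a : (toDDFam f).obj T ⟶ D) : Kmk D T xb hxb (Kinv D T xb hxb a) = a := by
  apply hom_ext_lifts
  intro T₀ j y v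
  change (SchDDFam.Hom.push (Kmk D T xb hxb (Kinv D T xb hxb a)) v).1 =
    (SchDDFam.Hom.push a v).1
  congr 1
  rw [push_Kmk]
  unfold Ke Kinv
  have hres : (v.1 ≫ pullback.snd (f j) T.hom) ≫ xb = (v.1 ≫ pullback.snd (f j) T.hom) ≫ xb :=
    rfl
  rw [← push_res a (v.1 ≫ pullback.snd (f j) T.hom) xb _ rfl (secT T xb hxb), comm_push]
  congr 1
  apply Subtype.ext
  have e : v.1 ≫ pullback.fst (f j) T.hom = y := v.2
  apply pullback.hom_ext
  · simp [canonicalDDFam, e]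
  · have h5 := canφ_snd (T := T) ((v.1 ≫ pullback.snd (f j) T.hom) ≫ xb) y (K_cond T xb hxb v)
      (Lifts.res (v.1 ≫ pullback.snd (f j) T.hom) (secT T xb hxb) rfl)
    refine h5.trans ?_
    simp only [Lifts.res_val, Category.assoc, secT_snd, Category.comp_id]

/-- **Sections of the sheaf of a descent datum over a scheme mapping to `X i`.** -/
noncomputable def Kequiv : Lifts (D.obj i) xb ≃ ((toDDFam f).obj T ⟶ D) where
  toFun := Kmk D T xb hxb
  invFun := Kinv D T xb hxb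
  left_inv := Kinv_Kmk D T xb hxb
  right_inv := Kmk_Kinv D T xb hxb

/-- Naturality in `T`. -/
lemma map_Kmk {T' : Over S} (g : T' ⟶ T) (w : Lifts (D.obj i) xb) (xb' : T'.left ⟶ X i)
    (hg : g.left ≫ xb = xb') (hxb' : xb' ≫ f i = T'.hom) :
    (toDDFam f).map g ≫ Kmk D T xb hxb w = Kmk D T' xb' hxb' (Lifts.res g.left w hg) := by
  apply (Kequiv D T' xb' hxb').symm.injective
  change Kinv D T' xb' hxb' _ = Kinv D T' xb' hxb' (Kmk D T' xb' hxb' _)
  rw [Kinv_Kmk]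
  unfold Kinv
  change SchDDFam.Hom.push (Kmk D T xb hxb w)
    (SchDDFam.Hom.push ((toDDFam f).map g) (secT T' xb' hxb')) = _
  have h1 : SchDDFam.Hom.push ((toDDFam f).map g) (secT T' xb' hxb') =
      Lifts.res g.left (secT T xb hxb) hg := by
    apply Subtype.ext
    apply pullback.hom_ext
    · simp [SchDDFam.Hom.push, toDDFam, canonicalDDFam, secT, hg]
    · simp [SchDDFam.Hom.push, toDDFam, canonicalDDFam, secT]
      exact Category.id_comp _
  rw [h1, push_res]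
  congr 1
  exact Kinv_Kmk D T xb hxb w

/-- Compatibility with the gluing bijections. -/
lemma Kmk_φ {j : ι} (xb₁ : T.left ⟶ X j) (hxb₁ : xb₁ ≫ f j = T.hom) (w : Lifts (D.obj i) xb) :
    Kmk D T xb₁ hxb₁ (D.φ xb xb₁ (hxb.trans hxb₁.symm) w) = Kmk D T xb hxb w := by
  apply (Kequiv D T xb₁ hxb₁).symm.injective
  change Kinv D T xb₁ hxb₁ (Kmk D T xb₁ hxb₁ _) = Kinv D T xb₁ hxb₁ _
  rw [Kinv_Kmk]
  unfold Kinv
  rw [push_Kmk]
  unfold Ke
  have h1 : ((secT T xb₁ hxb₁).1 ≫ pullback.snd (f j) T.hom) ≫ xb = xb := by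
    rw [secT_snd, Category.id_comp]
  exact (φ_congr_left D _ xb h1 xb₁ _ (hxb.trans hxb₁.symm) _ w (by simp)).symm

end K

end Groth.Agent.H3.DescSh
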