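import Groth.Agent.Lib.Helper3.DescSh.Rep
import Mathlib

/-!
# The descent datum attached to a sheaf whose base change to a covering is representable (helper3)

`c i : W i ⟶ T` a family of morphisms of schemes over `S`, `π : F ⟶ h_T` a sheaf over `T` and
`h_{E i} = F ×_{h_T} h_{W i}`.  Then the `E i ⟶ W i` carry a canonical descent datum `Psi`
relative to the family `c`.  If `c` is a single fpqc morphism, `F` satisfies fpqc descent and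
`Psi` is effective, then `F` is representable (`exists_iso_of_effective`).
-/

set_option autoImplicit false
set_option backward.isDefEq.respectTransparency false
set_option backward.isDefEq.respectTransparency.types false

universe u

open CategoryTheory CategoryTheory.Limits AlgebraicGeometry Opposite

namespace Groth.Agent.H3.DescSh

open _root_.Desc _root_.AlgSp Groth.Agent.H5.Desc Groth.Agent.H5.AlgSp

section family

variable {S : Scheme.{u}} {T : Over S} {ι : Type u} {W E : ι → Over S}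
  (c : ∀ i, W i ⟶ T) (e : ∀ i, E i ⟶ W i) {F : Sp S} (π : F ⟶ (yon S).obj T)
  (uu : ∀ i, (yon S).obj (E i) ⟶ F)

/-- The `i`-th member as a scheme over `W i`. -/
abbrev EOv (i : ι) : Over (W i).left := Over.mk (e i).left

/-- A lift as a morphism over `S`. -/
def toOv {i : ι} {T₀ : Scheme.{u}} {x : T₀ ⟶ (W i).left} (v : Lifts (EOv e i) x) (s : T₀ ⟶ S)
    (hs : x ≫ (W i).hom = s) : Over.mk s ⟶ E i :=
  Over.homMk v.1 (by
    have h2 : v.1 ≫ (e i).left = x := v.2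
    rw [← Over.w (e i), ← Category.assoc, h2]
    exact hs)

/-- A point of `W i` as a morphism over `S`. -/
def xOv {i : ι} {T₀ : Scheme.{u}} (x : T₀ ⟶ (W i).left) (s : T₀ ⟶ S)
    (hs : x ≫ (W i).hom = s) : Over.mk s ⟶ W i := Over.homMk x hs

lemma toOv_e {i : ι} {T₀ : Scheme.{u}} {x : T₀ ⟶ (W i).left} (v : Lifts (EOv e i) x)
    (s : T₀ ⟶ S) (hs : x ≫ (W i).hom = s) : toOv e v s hs ≫ e i = xOv x s hs :=
  Over.OverMorphism.ext v.2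

lemma xOv_c {i j : ι} {T₀ : Scheme.{u}} (x₀ : T₀ ⟶ (W i).left) (x₁ : T₀ ⟶ (W j).left)
    (h : x₀ ≫ (c i).left = x₁ ≫ (c j).left) (s : T₀ ⟶ S) (hs₀ : x₀ ≫ (W i).hom = s)
    (hs₁ : x₁ ≫ (W j).hom = s) : xOv x₀ s hs₀ ≫ c i = xOv x₁ s hs₁ ≫ c j :=
  Over.OverMorphism.ext h

lemma struct_eq {i j : ι} {T₀ : Scheme.{u}} (x₀ : T₀ ⟶ (W i).left) (x₁ : T₀ ⟶ (W j).left)
    (h : x₀ ≫ (c i).left = x₁ ≫ (c j).left) : x₀ ≫ (W i).hom = x₁ ≫ (W j).hom := by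
  rw [← Over.w (c i), ← Over.w (c j), ← Category.assoc, h, Category.assoc]

/-- Two lifts have the same image in `F`. -/
def Rel {i j : ι} {T₀ : Scheme.{u}} {x₀ : T₀ ⟶ (W i).left} {x₁ : T₀ ⟶ (W j).left}
    (v₀ : Lifts (EOv e i) x₀) (v₁ : Lifts (EOv e j) x₁) : Prop :=
  ∀ (s : T₀ ⟶ S) (h₀ : x₀ ≫ (W i).hom = s) (h₁ : x₁ ≫ (W j).hom = s),
    (yon S).map (toOv e v₀ s h₀) ≫ uu i = (yon S).map (toOv e v₁ s h₁) ≫ uu j

variable {e uu} in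
lemma Rel.symm {i j : ι} {T₀ : Scheme.{u}} {x₀ : T₀ ⟶ (W i).left} {x₁ : T₀ ⟶ (W j).left}
    {v₀ : Lifts (EOv e i) x₀} {v₁ : Lifts (EOv e j) x₁} (H : Rel e uu v₀ v₁) : Rel e uu v₁ v₀ :=
  fun s h₁ h₀ => (H s h₀ h₁).symm

lemma Rel.refl {i : ι} {T₀ : Scheme.{u}} {x₀ : T₀ ⟶ (W i).left} (v₀ : Lifts (EOv e i) x₀) :
    Rel e uu v₀ v₀ := fun _ _ _ => rfl

variable {e uu} in
lemma Rel.trans {i j k : ι} {T₀ : Scheme.{u}} {x₀ : T₀ ⟶ (W i).left} {x₁ : T₀ ⟶ (W j).left}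
    {x₂ : T₀ ⟶ (W k).left} {v₀ : Lifts (EOv e i) x₀} {v₁ : Lifts (EOv e j) x₁}
    {v₂ : Lifts (EOv e k) x₂} (hx : x₁ ≫ (W j).hom = x₀ ≫ (W i).hom) (H : Rel e uu v₀ v₁)
    (H' : Rel e uu v₁ v₂) : Rel e uu v₀ v₂ :=
  fun s h₀ h₂ => (H s h₀ (hx.trans h₀)).trans (H' s (hx.trans h₀) h₂)

lemma toOv_res {i : ι} {T₀ T₀' : Scheme.{u}} (g : T₀' ⟶ T₀) {x : T₀ ⟶ (W i).left}
    {y : T₀' ⟶ (W i).left} (v : Lifts (EOv e i) x) (hy : g ≫ x = y) (s : T₀ ⟶ S)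
    (hs : x ≫ (W i).hom = s) (s' : T₀' ⟶ S) (hs' : y ≫ (W i).hom = s') :
    toOv e (Lifts.res g v hy) s' hs' =
      (Over.homMk g (by rw [← hs', ← hy, Category.assoc, hs]; rfl) : Over.mk s' ⟶ Over.mk s) ≫
        toOv e v s hs :=
  Over.OverMorphism.ext rfl

variable {e uu} in
lemma Rel.res {i j : ι} {T₀ T₀' : Scheme.{u}} (g : T₀' ⟶ T₀) {x₀ : T₀ ⟶ (W i).left}
    {x₁ : T₀ ⟶ (W j).left} {v₀ : Lifts (EOv e i) x₀} {v₁ : Lifts (EOv e j) x₁}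
    (hx : x₀ ≫ (W i).hom = x₁ ≫ (W j).hom) (H : Rel e uu v₀ v₁) {y₀ : T₀' ⟶ (W i).left}
    {y₁ : T₀' ⟶ (W j).left} (hy₀ : g ≫ x₀ = y₀) (hy₁ : g ≫ x₁ = y₁) :
    Rel e uu (Lifts.res g v₀ hy₀) (Lifts.res g v₁ hy₁) := by
  intro s' h₀' h₁'
  have e0 := toOv_res e g v₀ hy₀ _ rfl s' h₀'
  have e1 := toOv_res e g v₁ hy₁ _ hx.symm s' h₁'
  rw [e0, e1, Functor.map_comp, Functor.map_comp]
  simp only [Category.assoc]
  rw [H _ rfl hx.symm]

variable (sq : ∀ i, IsPullback (uu i) ((yon S).map (e i)) π ((yon S).map (c i)))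

include sq in
lemma rel_unique {j : ι} {T₀ : Scheme.{u}} {x₁ : T₀ ⟶ (W j).left} (v₁ v₁' : Lifts (EOv e j) x₁)
    (s : T₀ ⟶ S) (h₁ : x₁ ≫ (W j).hom = s)
    (H : (yon S).map (toOv e v₁ s h₁) ≫ uu j = (yon S).map (toOv e v₁' s h₁) ≫ uu j) :
    v₁ = v₁' := by
  have h2 : (yon S).map (toOv e v₁ s h₁) = (yon S).map (toOv e v₁' s h₁) := by
    apply (sq j).hom_ext H
    rw [← Functor.map_comp, ← Functor.map_comp, toOv_e, toOv_e]
  have h3 := (yon S).map_injective h2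
  exact Subtype.ext (congrArg (fun m => m.left) h3)

include sq in
lemma rel_exists {i j : ι} {T₀ : Scheme.{u}} (x₀ : T₀ ⟶ (W i).left) (x₁ : T₀ ⟶ (W j).left)
    (h : x₀ ≫ (c i).left = x₁ ≫ (c j).left) (v₀ : Lifts (EOv e i) x₀) :
    ∃ v₁ : Lifts (EOv e j) x₁, Rel e uu v₀ v₁ := by
  have hx := struct_eq c x₀ x₁ h
  have hw : ((yon S).map (toOv e v₀ (x₀ ≫ (W i).hom) rfl) ≫ uu i) ≫ π =
      (yon S).map (xOv x₁ (x₀ ≫ (W i).hom) hx.symm) ≫ (yon S).map (c j) := by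
    rw [Category.assoc, (sq i).w, ← Category.assoc, ← Functor.map_comp, toOv_e,
      ← Functor.map_comp, ← Functor.map_comp, xOv_c c x₀ x₁ h _ rfl hx.symm]
  let zh : Over.mk (x₀ ≫ (W i).hom) ⟶ E j := (yon S).preimage ((sq j).lift _ _ hw)
  have hz1 : (yon S).map zh ≫ uu j = (yon S).map (toOv e v₀ (x₀ ≫ (W i).hom) rfl) ≫ uu i := by
    rw [Functor.map_preimage]
    exact (sq j).lift_fst _ _ _
  have hz2 : zh ≫ e j = xOv x₁ (x₀ ≫ (W i).hom) hx.symm := by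
    apply (yon S).map_injective
    rw [Functor.map_comp, Functor.map_preimage]
    exact (sq j).lift_snd _ _ _
  have hz3 : zh.left ≫ (e j).left = x₁ := congrArg (fun m => m.left) hz2
  refine ⟨⟨zh.left, hz3⟩, ?_⟩
  intro s h₀ h₁
  subst h₀
  have h5 : toOv e (⟨zh.left, hz3⟩ : Lifts (EOv e j) x₁) (x₀ ≫ (W i).hom) h₁ = zh :=
    Over.OverMorphism.ext rfl
  rw [h5, hz1]

/-- The gluing map. -/
noncomputable def psiFun {i j : ι} {T₀ : Scheme.{u}} (x₀ : T₀ ⟶ (W i).left)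
    (x₁ : T₀ ⟶ (W j).left) (h : x₀ ≫ (c i).left = x₁ ≫ (c j).left) (v₀ : Lifts (EOv e i) x₀) :
    Lifts (EOv e j) x₁ :=
  (rel_exists c e π uu sq x₀ x₁ h v₀).choose

lemma psiFun_spec {i j : ι} {T₀ : Scheme.{u}} (x₀ : T₀ ⟶ (W i).left)
    (x₁ : T₀ ⟶ (W j).left) (h : x₀ ≫ (c i).left = x₁ ≫ (c j).left) (v₀ : Lifts (EOv e i) x₀) :
    Rel e uu v₀ (psiFun c e π uu sq x₀ x₁ h v₀) :=
  (rel_exists c e π uu sq x₀ x₁ h v₀).choose_spec

lemma psiFun_unique {i j : ι} {T₀ : Scheme.{u}} (x₀ : T₀ ⟶ (W i).left)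
    (x₁ : T₀ ⟶ (W j).left) (h : x₀ ≫ (c i).left = x₁ ≫ (c j).left) (v₀ : Lifts (EOv e i) x₀)
    (v₁ : Lifts (EOv e j) x₁) (H : Rel e uu v₀ v₁) : v₁ = psiFun c e π uu sq x₀ x₁ h v₀ := by
  have hx := struct_eq c x₀ x₁ h
  apply rel_unique c e π uu sq v₁ _ (x₀ ≫ (W i).hom) hx.symm
  rw [← H _ rfl hx.symm, ← psiFun_spec c e π uu sq x₀ x₁ h v₀ _ rfl hx.symm]

/-- **The descent datum attached to a sheaf over `T` whose base changes to the `W i` are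
representable.** -/
noncomputable def Psi : SchDDFam (fun i => (c i).left) where
  obj i := EOv e i
  φ T₀ i j x₀ x₁ h :=
    { toFun := psiFun c e π uu sq x₀ x₁ h
      invFun := psiFun c e π uu sq x₁ x₀ h.symm
      left_inv := fun v => (psiFun_unique c e π uu sq x₁ x₀ h.symm _ v
        (psiFun_spec c e π uu sq x₀ x₁ h v).symm).symm
      right_inv := fun v => (psiFun_unique c e π uu sq x₀ x₁ h _ v
        (psiFun_spec c e π uu sq x₁ x₀ h.symm v).symm).symm }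
  φ_natural T₀ T₀' g i j x₀ x₁ h y₀ y₁ hy₀ hy₁ h' v v' hv' := by
    have hv : v' = Lifts.res g v hy₀ := Subtype.ext hv'
    subst hv
    have H := psiFun_unique c e π uu sq y₀ y₁ h' (Lifts.res g v hy₀)
      (Lifts.res g (psiFun c e π uu sq x₀ x₁ h v) hy₁)
      (Rel.res g (struct_eq c x₀ x₁ h) (psiFun_spec c e π uu sq x₀ x₁ h v) hy₀ hy₁)
    exact (congrArg Subtype.val H).symm
  φ_self T₀ i x v := (psiFun_unique c e π uu sq x x rfl v v (Rel.refl e uu v)).symm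
  φ_comp T₀ i j k x₀ x₁ x₂ h₀₁ h₁₂ v :=
    psiFun_unique c e π uu sq x₀ x₂ (h₀₁.trans h₁₂) v _
      (Rel.trans (struct_eq c x₀ x₁ h₀₁).symm (psiFun_spec c e π uu sq x₀ x₁ h₀₁ v)
        (psiFun_spec c e π uu sq x₁ x₂ h₁₂ _))

lemma Psi_φ_rel {i j : ι} {T₀ : Scheme.{u}} (x₀ : T₀ ⟶ (W i).left)
    (x₁ : T₀ ⟶ (W j).left) (h : x₀ ≫ (c i).left = x₁ ≫ (c j).left) (v₀ : Lifts (EOv e i) x₀) :
    Rel e uu v₀ ((Psi c e π uu sq).φ x₀ x₁ h v₀) :=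
  psiFun_spec c e π uu sq x₀ x₁ h v₀

end family

end Groth.Agent.H3.DescSh
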