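import Groth.Agent.Lib.Helper3.DescSh.Psi
import Mathlib

/-!
# Effectiveness of the descent datum of a sheaf implies representability (helper3)
-/

set_option autoImplicit false
set_option backward.isDefEq.respectTransparency false
set_option backward.isDefEq.respectTransparency.types false

universe u

open CategoryTheory CategoryTheory.Limits AlgebraicGeometry Opposite

namespace Groth.Agent.H3.DescSh

open _root_.Desc _root_.AlgSp Groth.Agent.H5.Desc Groth.Agent.H5.AlgSp

section PO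

variable {S : Scheme.{u}} (T : Over S) {W : Over S} (c : W ⟶ T) (Y : Over T.left)

/-- `Y` as a scheme over `S`. -/
abbrev YO : Over S := Over.mk (Y.hom ≫ T.hom)

/-- Its structure morphism. -/
def yO : YO T Y ⟶ T := Over.homMk Y.hom rfl

@[simp] lemma yO_left : (yO T Y).left = Y.hom := rfl

variable {T}

/-- `W ×_T Y` as a scheme over `S`. -/
noncomputable abbrev PO : Over S := Over.mk (pullback.snd c.left Y.hom ≫ Y.hom ≫ T.hom)

/-- First projection. -/
noncomputable def pO₁ : PO c Y ⟶ W :=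
  Over.homMk (pullback.fst c.left Y.hom) (by
    change pullback.fst c.left Y.hom ≫ W.hom = pullback.snd c.left Y.hom ≫ Y.hom ≫ T.hom
    rw [← Over.w c, ← Category.assoc, pullback.condition, Category.assoc])

/-- Second projection. -/
noncomputable def pO₂ : PO c Y ⟶ YO T Y := Over.homMk (pullback.snd c.left Y.hom) rfl

@[simp] lemma pO₁_left : (pO₁ c Y).left = pullback.fst c.left Y.hom := rfl

@[simp] lemma pO₂_left : (pO₂ c Y).left = pullback.snd c.left Y.hom := rfl

lemma pO_w : pO₁ c Y ≫ c = pO₂ c Y ≫ yO T Y := Over.OverMorphism.ext pullback.condition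

/-- The universal property. -/
noncomputable def POlift {Z : Over S} (a : Z ⟶ W) (b : Z ⟶ YO T Y) (h : a ≫ c = b ≫ yO T Y) :
    Z ⟶ PO c Y :=
  Over.homMk (pullback.lift a.left b.left (congrArg (fun m => m.left) h)) (by
    change pullback.lift a.left b.left _ ≫ pullback.snd c.left Y.hom ≫ Y.hom ≫ T.hom = Z.hom
    rw [pullback.lift_snd_assoc]
    exact Over.w b)

lemma POlift_fst {Z : Over S} (a : Z ⟶ W) (b : Z ⟶ YO T Y) (h : a ≫ c = b ≫ yO T Y) :
    POlift c Y a b h ≫ pO₁ c Y = a := Over.OverMorphism.ext (pullback.lift_fst _ _ _)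

lemma POlift_snd {Z : Over S} (a : Z ⟶ W) (b : Z ⟶ YO T Y) (h : a ≫ c = b ≫ yO T Y) :
    POlift c Y a b h ≫ pO₂ c Y = b := Over.OverMorphism.ext (pullback.lift_snd _ _ _)

lemma PO_hom_ext {Z : Over S} (l₁ l₂ : Z ⟶ PO c Y) (h1 : l₁ ≫ pO₁ c Y = l₂ ≫ pO₁ c Y)
    (h2 : l₁ ≫ pO₂ c Y = l₂ ≫ pO₂ c Y) : l₁ = l₂ :=
  Over.OverMorphism.ext (pullback.hom_ext (congrArg (fun m => m.left) h1)
    (congrArg (fun m => m.left) h2))

end PO

lemma fpqc_fst {S : Scheme.{u}} {T₀ T W : Over S} (r : T₀ ⟶ T) (c : W ⟶ T) [Flat c.left]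
    [Surjective c.left] [QuasiCompact c.left] :
    Flat (pullback.fst r c).left ∧ Surjective (pullback.fst r c).left ∧
      QuasiCompact (pullback.fst r c).left := by
  have sqS := (IsPullback.of_hasPullback r c).flip.map (Over.forget S)
  exact ⟨MorphismProperty.of_isPullback (P := @Flat) sqS (inferInstanceAs (Flat c.left)),
    MorphismProperty.of_isPullback (P := @Surjective) sqS (inferInstanceAs (Surjective c.left)),
    MorphismProperty.of_isPullback (P := @QuasiCompact) sqS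
      (inferInstanceAs (QuasiCompact c.left))⟩

section single

variable {S : Scheme.{u}} {T W E : Over S} (c : W ⟶ T) (e : E ⟶ W) {F : Sp S}
  (π : F ⟶ (yon S).obj T) (uu : (yon S).obj E ⟶ F)
  (sq : IsPullback uu ((yon S).map e) π ((yon S).map c))

include sq in
/-- Every section of `F` lifts to `E` after base change along `c`. -/
lemma exists_lift_datum {T₀ : Over S} (t : (yon S).obj T₀ ⟶ F) (r : T₀ ⟶ T)
    (hr : t ≫ π = (yon S).map r) :
    ∃ σ : pullback r c ⟶ E, (yon S).map σ ≫ uu = (yon S).map (pullback.fst r c) ≫ t ∧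
      σ ≫ e = pullback.snd r c := by
  have hw : ((yon S).map (pullback.fst r c) ≫ t) ≫ π =
      (yon S).map (pullback.snd r c) ≫ (yon S).map c := by
    rw [Category.assoc, hr, ← Functor.map_comp, ← Functor.map_comp, pullback.condition]
  refine ⟨(yon S).preimage (sq.lift _ _ hw), ?_, ?_⟩
  · rw [Functor.map_preimage]
    exact sq.lift_fst _ _ _
  · apply (yon S).map_injective
    rw [Functor.map_comp, Functor.map_preimage]
    exact sq.lift_snd _ _ _

/-- The descent datum relative to the single morphism `c`. -/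
noncomputable def Psi1 : SchDD c.left :=
  (SchDDFam.toSchDD.{u} c.left).obj
    (Psi (fun _ : PUnit.{u + 1} => c) (fun _ => e) π (fun _ => uu) (fun _ => sq))

@[simp] lemma Psi1_obj : (Psi1 c e π uu sq).obj = Over.mk e.left := rfl

lemma Psi1_φ_rel {T₀ : Scheme.{u}} (x₀ x₁ : T₀ ⟶ W.left) (h : x₀ ≫ c.left = x₁ ≫ c.left)
    (v₀ : Lifts (Psi1 c e π uu sq).obj x₀) :
    Rel (ι := PUnit.{u + 1}) (i := PUnit.unit) (j := PUnit.unit) (fun _ => e) (fun _ => uu) v₀
      ((Psi1 c e π uu sq).φ x₀ x₁ h v₀) :=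
  Psi_φ_rel (fun _ : PUnit.{u + 1} => c) (fun _ => e) π (fun _ => uu) (fun _ => sq) x₀ x₁ h v₀

include sq in
/-- **If the descent datum attached to a sheaf `F` over `T` satisfying fpqc descent is effective,
then `F` is representable.** -/
theorem exists_iso_of_effective [Flat c.left] [Surjective c.left] [QuasiCompact c.left]
    (hF : IsFpqcSheaf F) (Y : Over T.left) (θ : (toDD c.left).obj Y ≅ Psi1 c e π uu sq) :
    ∃ ε : (yon S).obj (YO T Y) ≅ F, ε.hom ≫ π = (yon S).map (yO T Y) := by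
  -- the isomorphism `W ×_T Y ≅ E`
  have hθw : θ.hom.hom.left ≫ e.left = pullback.fst c.left Y.hom := Over.w θ.hom.hom
  have hθ1 : θ.hom.hom.left ≫ θ.inv.hom.left = 𝟙 _ :=
    congrArg (fun m => m.hom.left) θ.hom_inv_id
  have hθ2 : θ.inv.hom.left ≫ θ.hom.hom.left = 𝟙 _ :=
    congrArg (fun m => m.hom.left) θ.inv_hom_id
  have hθS : θ.hom.hom.left ≫ E.hom = (PO c Y).hom := by
    change _ = pullback.snd c.left Y.hom ≫ Y.hom ≫ T.hom
    rw [← Over.w e, ← Category.assoc, hθw, ← Over.w c, ← Category.assoc, pullback.condition,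
      Category.assoc]
  let θh : PO c Y ⟶ E := Over.homMk θ.hom.hom.left hθS
  have hθS' : θ.inv.hom.left ≫ (PO c Y).hom = E.hom := by
    rw [← hθS, ← Category.assoc, hθ2, Category.id_comp]
  let θi : E ⟶ PO c Y := Over.homMk θ.inv.hom.left hθS'
  have hθhi : θh ≫ θi = 𝟙 _ := Over.OverMorphism.ext hθ1
  have hθih : θi ≫ θh = 𝟙 _ := Over.OverMorphism.ext hθ2
  have hθe : θh ≫ e = pO₁ c Y := Over.OverMorphism.ext hθw
  -- fpqc instances
  have i1 : Flat (pO₂ c Y).left := MorphismProperty.pullback_snd (P := @Flat) _ _ inferInstance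
  have i2 : Surjective (pO₂ c Y).left :=
    MorphismProperty.pullback_snd (P := @Surjective) _ _ inferInstance
  have i3 : QuasiCompact (pO₂ c Y).left :=
    MorphismProperty.pullback_snd (P := @QuasiCompact) _ _ inferInstance
  -- Step 1: the map `h_Y ⟶ F`
  obtain ⟨b, hb⟩ := hF.exists_desc (pO₂ c Y) ((yon S).map θh ≫ uu) (by
    intro Z g₁ g₂ hg
    have hgl : g₁.left ≫ pullback.snd c.left Y.hom = g₂.left ≫ pullback.snd c.left Y.hom :=
      congrArg (fun m => m.left) hg
    have hx : (g₁.left ≫ pullback.fst c.left Y.hom) ≫ c.left =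
        (g₂.left ≫ pullback.fst c.left Y.hom) ≫ c.left := by
      rw [Category.assoc, Category.assoc, pullback.condition, ← Category.assoc, ← Category.assoc,
        hgl]
    let v₁ : Lifts ((toDD c.left).obj Y).obj (g₁.left ≫ pullback.fst c.left Y.hom) :=
      ⟨g₁.left, rfl⟩
    have hcan : (((toDD c.left).obj Y).φ _ _ hx v₁).1 = g₂.left := by
      apply pullback.hom_ext
      · simp [toDD, canonicalDD]
      · simp [toDD, canonicalDD, v₁, hgl]
    have hcomm := θ.hom.comm _ _ hx v₁ (SchDD.Hom.push θ.hom v₁) rfl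
    rw [hcan] at hcomm
    have hrel := Psi1_φ_rel c e π uu sq _ _ hx (SchDD.Hom.push θ.hom v₁)
    have hs₁ : (g₁.left ≫ pullback.fst c.left Y.hom) ≫ W.hom = Z.hom := Over.w (g₁ ≫ pO₁ c Y)
    have hs₂ : (g₂.left ≫ pullback.fst c.left Y.hom) ≫ W.hom = Z.hom := Over.w (g₂ ≫ pO₁ c Y)
    have h5 := hrel Z.hom hs₁ hs₂
    have e1 : toOv (ι := PUnit.{u + 1}) (i := PUnit.unit) (fun _ => e)
        (SchDD.Hom.push θ.hom v₁) Z.hom hs₁ = g₁ ≫ θh := Over.OverMorphism.ext rfl
    have e2 : toOv (ι := PUnit.{u + 1}) (i := PUnit.unit) (fun _ => e)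
        ((Psi1 c e π uu sq).φ _ _ hx (SchDD.Hom.push θ.hom v₁)) Z.hom hs₂ = g₂ ≫ θh :=
      Over.OverMorphism.ext hcomm
    rw [e1, e2] at h5
    rw [← Category.assoc, ← Category.assoc, ← Functor.map_comp, ← Functor.map_comp]
    exact h5)
  -- Step 2
  have hbπ : b ≫ π = (yon S).map (yO T Y) := by
    apply (isFpqcSheaf_yon T).hom_ext (pO₂ c Y)
    have h1 : (yon S).map (pO₂ c Y) ≫ b ≫ π = (yon S).map (θh ≫ e ≫ c) := by
      rw [← Category.assoc, hb, Category.assoc, sq.w, Functor.map_comp, Functor.map_comp]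
    rw [h1, ← Functor.map_comp, ← pO_w, ← hθe, Category.assoc]
  have hP : ∀ {Z : Over S} (a : Z ⟶ W) (b' : Z ⟶ YO T Y) (h : a ≫ c = b' ≫ yO T Y),
      (yon S).map (POlift c Y a b' h ≫ θh) ≫ uu = (yon S).map b' ≫ b := by
    intro Z a b' h
    rw [Functor.map_comp, Category.assoc, ← hb, ← Category.assoc, ← Functor.map_comp, POlift_snd]
  have hP' : ∀ {Z : Over S} (a : Z ⟶ W) (b' : Z ⟶ YO T Y) (h : a ≫ c = b' ≫ yO T Y),
      (POlift c Y a b' h ≫ θh) ≫ e = a := by
    intro Z a b' h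
    rw [Category.assoc, hθe, POlift_fst]
  -- Step 3: injectivity
  have hinj : ∀ {T₀ : Over S} (t₁ t₂ : T₀ ⟶ YO T Y),
      (yon S).map t₁ ≫ b = (yon S).map t₂ ≫ b → t₁ = t₂ := by
    intro T₀ t₁ t₂ ht
    have hr2 : t₂ ≫ yO T Y = t₁ ≫ yO T Y := by
      apply (yon S).map_injective
      rw [Functor.map_comp, Functor.map_comp, ← hbπ, ← Category.assoc, ← Category.assoc, ht]
    obtain ⟨f1, f2, f3⟩ := fpqc_fst (t₁ ≫ yO T Y) c
    have hc1 : pullback.snd (t₁ ≫ yO T Y) c ≫ c =
        (pullback.fst (t₁ ≫ yO T Y) c ≫ t₁) ≫ yO T Y := by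
      rw [Category.assoc, ← pullback.condition]
    have hc2 : pullback.snd (t₁ ≫ yO T Y) c ≫ c =
        (pullback.fst (t₁ ≫ yO T Y) c ≫ t₂) ≫ yO T Y := by
      rw [Category.assoc, hr2, ← pullback.condition]
    have key : POlift c Y _ _ hc1 = POlift c Y _ _ hc2 := by
      have h6 : POlift c Y _ _ hc1 ≫ θh = POlift c Y _ _ hc2 ≫ θh := by
        apply (yon S).map_injective
        apply sq.hom_ext
        · rw [hP, hP, Functor.map_comp, Functor.map_comp, Category.assoc, Category.assoc, ht]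
        · rw [← Functor.map_comp, ← Functor.map_comp, hP', hP']
      have h7 := congrArg (fun m => m ≫ θi) h6
      simpa [Category.assoc, hθhi] using h7
    have h8 : pullback.fst (t₁ ≫ yO T Y) c ≫ t₁ = pullback.fst (t₁ ≫ yO T Y) c ≫ t₂ := by
      have e1 := POlift_snd c Y _ _ hc1
      have e2 := POlift_snd c Y _ _ hc2
      rw [← e1, ← e2, key]
    have : Epi (pullback.fst (t₁ ≫ yO T Y) c).left := inferInstance
    apply Over.OverMorphism.ext
    have h9 : (pullback.fst (t₁ ≫ yO T Y) c).left ≫ t₁.left =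
        (pullback.fst (t₁ ≫ yO T Y) c).left ≫ t₂.left := congrArg (fun m => m.left) h8
    exact (cancel_epi _).1 h9
  -- Step 4: surjectivity
  have hsurj : ∀ {T₀ : Over S} (a : (yon S).obj T₀ ⟶ F),
      ∃ y : T₀ ⟶ YO T Y, (yon S).map y ≫ b = a := by
    intro T₀ a
    obtain ⟨r, hr⟩ := (yon S).map_surjective (a ≫ π)
    obtain ⟨σ, hσu, hσe⟩ := exists_lift_datum c e π uu sq a r hr.symm
    obtain ⟨f1, f2, f3⟩ := fpqc_fst r c
    have hy'b : (yon S).map ((σ ≫ θi) ≫ pO₂ c Y) ≫ b = (yon S).map (pullback.fst r c) ≫ a := by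
      rw [Functor.map_comp, Category.assoc, hb, ← Category.assoc, ← Functor.map_comp,
        Category.assoc, hθih, Category.comp_id, hσu]
    obtain ⟨s, hs⟩ := (isFpqcSheaf_yon (YO T Y)).exists_desc (pullback.fst r c)
      ((yon S).map ((σ ≫ θi) ≫ pO₂ c Y)) (by
        intro Z g₁ g₂ hg
        rw [← Functor.map_comp, ← Functor.map_comp]
        congr 1
        apply hinj
        have hq : ∀ g : Z ⟶ pullback r c, (yon S).map (g ≫ (σ ≫ θi) ≫ pO₂ c Y) ≫ b =
            (yon S).map (g ≫ pullback.fst r c) ≫ a := by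
          intro g
          rw [Functor.map_comp, Category.assoc, hy'b, ← Category.assoc, ← Functor.map_comp]
        rw [hq, hq, hg])
    obtain ⟨y, hy⟩ := (yon S).map_surjective s
    refine ⟨y, ?_⟩
    apply hF.hom_ext (pullback.fst r c)
    rw [hy, ← Category.assoc, hs, hy'b]
  have hiso : IsIso b := by
    apply isIso_of_yon_bijective
    intro T₀
    constructor
    · intro x₁ x₂ hx
      dsimp only at hx
      obtain ⟨t₁, rfl⟩ := (yon S).map_surjective x₁
      obtain ⟨t₂, rfl⟩ := (yon S).map_surjective x₂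
      rw [hinj t₁ t₂ hx]
    · intro a
      obtain ⟨y, hy⟩ := hsurj a
      exact ⟨(yon S).map y, hy⟩
  exact ⟨asIso b, hbπ⟩

end single

end Groth.Agent.H3.DescSh
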