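import Groth.Agent.Lib.Helper3.DescSh.Affine
import Groth.Agent.Lib.Helper3.DescSh.FpqcShQAff
import Groth.Agent.Lib.Helper3.ConsP.QAff
import Groth.Agent.Lib.Helper5.Lim.QuasiAffineLocal
import Mathlib

/-!
# Effectiveness of descent data of quasi-affine morphisms along fpqc morphisms (helper3)
-/

set_option autoImplicit false
set_option backward.isDefEq.respectTransparency false
set_option backward.isDefEq.respectTransparency.types false

universe u

open CategoryTheory CategoryTheory.Limits AlgebraicGeometry Opposite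

namespace Groth.Agent.H3.DescSh

open _root_.AlgSp Groth.Agent.H5.AlgSp Desc Groth.Agent.H3.ConsP

/-- quasi-affine morphisms are Zariski-local on the target. -/
instance isZariskiLocalAtTarget_quasiAffineHoms : IsZariskiLocalAtTarget quasiAffineHoms.{u} := by
  apply IsZariskiLocalAtTarget.mk'
  · intro X Y f U hf
    exact Groth.Agent.LD.QC.isQuasiAffine_morphismRestrict f hf U
  · intro X Y f ι U hU h
    have hqc : QuasiCompact f :=
      IsZariskiLocalAtTarget.of_iSup_eq_top (P := @QuasiCompact) U hU (fun i => (h i).1)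
    apply Groth.Agent.H5.QA.isQuasiAffine_of_cover f
    intro y
    have hy : y ∈ (⨆ i, U i : Y.Opens) := by rw [hU]; trivial
    obtain ⟨i, hi⟩ := TopologicalSpace.Opens.mem_iSup.1 hy
    obtain ⟨V', hV', hyV'⟩ : ∃ V' : (U i).toScheme.Opens, IsAffineOpen V' ∧
        (⟨y, hi⟩ : U i) ∈ V' := by
      obtain ⟨_, ⟨V', hV', rfl⟩, hyV', -⟩ :=
        ((U i).toScheme.isBasis_affineOpens).exists_subset_of_mem_open
          (Set.mem_univ (⟨y, hi⟩ : U i)) isOpen_univ
      exact ⟨V', hV', hyV'⟩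
    refine ⟨(U i).ι ''ᵁ V', hV'.image_of_isOpenImmersion (U i).ι, ⟨⟨y, hi⟩, hyV', rfl⟩, ?_⟩
    have := (h i).2 V' hV'
    apply Groth.Agent.LD.QC.isQuasiAffine_of_opensRange_eq (f ⁻¹ᵁ ((U i).ι ''ᵁ V')).ι
      (((f ∣_ U i) ⁻¹ᵁ V').ι ≫ (f ⁻¹ᵁ U i).ι)
    rw [Scheme.Hom.opensRange_comp, Scheme.Opens.opensRange_ι, Scheme.Opens.opensRange_ι,
      image_morphismRestrict_preimage]

/-- **Affine case of descent for quasi-affine morphisms.** -/
theorem effective_of_isQuasiAffine {X S : Scheme.{u}} [IsAffine X] [IsAffine S] (p : X ⟶ S)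
    [Flat p] [Surjective p] (D : SchDD p) (hD : Mor2.IsQuasiAffine D.obj.hom) :
    ∃ U : Over S, Nonempty ((toDD p).obj U ≅ D) := by
  have sq := isPullback_kap ((SchDDFam.ofSchDD.{u} p).obj D) PUnit.unit
  have h1 : IsAffine (Over.mk (𝟙 S)).left := inferInstanceAs (IsAffine S)
  have h2 : IsAffine (XO (fun _ : PUnit.{u + 1} => p) PUnit.unit).left :=
    inferInstanceAs (IsAffine X)
  have h3 : (DO ((SchDDFam.ofSchDD.{u} p).obj D) PUnit.unit).left.IsQuasiAffine := by
    change D.obj.left.IsQuasiAffine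
    exact Groth.Agent.LD.QC.isQuasiAffine_of_isQuasiAffine_hom D.obj.hom hD
  have h4 : Flat (toBase (XO (fun _ : PUnit.{u + 1} => p) PUnit.unit)).left :=
    inferInstanceAs (Flat p)
  have h5 : Surjective (toBase (XO (fun _ : PUnit.{u + 1} => p) PUnit.unit)).left :=
    inferInstanceAs (Surjective p)
  obtain ⟨W, w, e, -, -⟩ := exists_descent_of_isQuasiAffine_fpqc'
    (toBase (XO (fun _ : PUnit.{u + 1} => p) PUnit.unit))
    (dO ((SchDDFam.ofSchDD.{u} p).obj D) PUnit.unit)
    ((ptIsTerminal S).from (FDSh ((SchDDFam.ofSchDD.{u} p).obj D)))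
    (kap ((SchDDFam.ofSchDD.{u} p).obj D) PUnit.unit)
    (isFpqcSheaf_FDSh ((SchDDFam.ofSchDD.{u} p).obj D)) sq
  obtain ⟨Y, ⟨E⟩⟩ := isEffective_of_iso ((SchDDFam.ofSchDD.{u} p).obj D) e
  exact ⟨Y, ⟨(SchDDFam.toSchDD.{u} p).mapIso E⟩⟩

/-- **Descent data of quasi-affine morphisms relative to a flat, surjective, quasi-compact
morphism are effective.** -/
theorem effective_of_isQuasiAffine_fpqc {X S : Scheme.{u}} (p : X ⟶ S) [Surjective p] [Flat p]
    [QuasiCompact p] (D : SchDD p) (hD : Mor2.IsQuasiAffine D.obj.hom) :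
    ∃ U : Over S, Nonempty ((toDD p).obj U ≅ D) := by
  have heff := isEffective_of_fpqc_of_affine quasiAffineHoms.{u}
    (prop_sigmaMap_fin_of_isZariskiLocalAtTarget quasiAffineHoms.{u})
    (fun X' S' p' hX' hS' hfl hsurj D' hD' => by
      have : IsAffine X' := hX'
      have : IsAffine S' := hS'
      have : Flat p' := hfl
      have : Surjective p' := hsurj
      exact effective_of_isQuasiAffine p' D' hD')
    (fun _ : PUnit.{u + 1} => p) (ofArrows_pUnit_mem_fpqc p) ((SchDDFam.ofSchDD.{u} p).obj D)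
    (fun _ => hD)
  obtain ⟨Y, ⟨E⟩⟩ := heff
  exact ⟨Y, ⟨(SchDDFam.toSchDD.{u} p).mapIso E⟩⟩

end Groth.Agent.H3.DescSh
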