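import Groth.Agent.Lib.Helper5.Desc.FullyFaithful
import Groth.Agent.Lib.Helper3.DescSh.FpqcSheaf
import Groth.Prelude.Def_AlgSp
import Mathlib

/-!
# The sheaf attached to a descent datum for schemes (helper3)

For a family `f i : X i ⟶ S` and a descent datum `D` relative to it, the presheaf
`T ↦ Hom (canonical descent datum of T, D)` on schemes over `S` is a sheaf for the fpqc topology
(in particular an fppf sheaf).
-/

set_option autoImplicit false
set_option backward.isDefEq.respectTransparency false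
set_option backward.isDefEq.respectTransparency.types false

universe u

open CategoryTheory CategoryTheory.Limits AlgebraicGeometry Opposite

namespace Groth.Agent.H3.DescSh

open _root_.Desc Groth.Agent.H5.Desc

variable {S : Scheme.{u}} {ι : Type u} {X : ι → Scheme.{u}} {f : ∀ i, X i ⟶ S}

/-- The presheaf of morphisms of descent data from canonical descent data into `D`. -/
noncomputable def FD (D : SchDDFam f) : (Over S)ᵒᵖ ⥤ Type (u + 1) :=
  (toDDFam f).op ⋙ yoneda.obj D ⋙ uliftFunctor.{u + 1, u}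

lemma FD_map_down (D : SchDDFam f) {T T' : Over S} (g : T' ⟶ T)
    (a : (FD D).obj (op T)) : ((FD D).map g.op a).down = (toDDFam f).map g ≫ a.down := rfl

/-- The tautological lift of `z` to `X i ×_S T₁` for `T₁` over `S` through `z`. -/
noncomputable def secLift {T₁ : Scheme.{u}} {i : ι} (z : T₁ ⟶ X i) (s : T₁ ⟶ S)
    (hz : z ≫ f i = s) : Lifts ((canonicalDDFam f (Over.mk s)).obj i) z :=
  ⟨pullback.lift z (𝟙 T₁) (by simpa using hz), pullback.lift_fst _ _ _⟩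

@[simp] lemma secLift_val {T₁ : Scheme.{u}} {i : ι} (z : T₁ ⟶ X i) (s : T₁ ⟶ S)
    (hz : z ≫ f i = s) :
    (secLift z s hz).1 = pullback.lift z (𝟙 T₁) (by simpa using hz) := rfl

/-- The structure morphism of a lift into a canonical descent datum. -/
lemma lift_cond {T : Over S} {T₀ : Scheme.{u}} {i : ι} {y : T₀ ⟶ X i}
    (v : Lifts ((canonicalDDFam f T).obj i) y) :
    y ≫ f i = (v.1 ≫ pullback.snd (f i) T.hom) ≫ T.hom := by
  have e : v.1 ≫ pullback.fst (f i) T.hom = y := v.2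
  rw [Category.assoc, ← pullback.condition, ← Category.assoc, e]

/-- Every lift into a canonical descent datum is the push of a tautological lift. -/
lemma push_map_secLift {T : Over S} {T₀ : Scheme.{u}} {i : ι} {y : T₀ ⟶ X i}
    (v : Lifts ((canonicalDDFam f T).obj i) y) (s : T₀ ⟶ S)
    (hs : (v.1 ≫ pullback.snd (f i) T.hom) ≫ T.hom = s) (hy : y ≫ f i = s) :
    SchDDFam.Hom.push ((toDDFam f).map
      (Over.homMk (v.1 ≫ pullback.snd (f i) T.hom) hs : Over.mk s ⟶ T))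
      (secLift y s hy) = v := by
  apply Subtype.ext
  have e : v.1 ≫ pullback.fst (f i) T.hom = y := v.2
  apply pullback.hom_ext
  · simp [SchDDFam.Hom.push, toDDFam, canonicalDDFam, e]
  · simp [SchDDFam.Hom.push, toDDFam, canonicalDDFam]
    exact Category.id_comp _

lemma canφ_secLift {T₁ : Scheme.{u}} {i j : ι} (z₀ : T₁ ⟶ X i) (z₁ : T₁ ⟶ X j) (s : T₁ ⟶ S)
    (h : z₀ ≫ f i = z₁ ≫ f j) (hz₀ : z₀ ≫ f i = s) (hz₁ : z₁ ≫ f j = s) :
    (canonicalDDFam f (Over.mk s)).φ z₀ z₁ h (secLift z₀ s hz₀) = secLift z₁ s hz₁ := by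
  apply Subtype.ext
  apply pullback.hom_ext
  · simp [canonicalDDFam]
  · simp [canonicalDDFam]

lemma canφ_snd {T : Over S} {T₀ : Scheme.{u}} {i j : ι} (y₀ : T₀ ⟶ X i) (y₁ : T₀ ⟶ X j)
    (h : y₀ ≫ f i = y₁ ≫ f j) (v : Lifts ((canonicalDDFam f T).obj i) y₀) :
    ((canonicalDDFam f T).φ y₀ y₁ h v).1 ≫ pullback.snd (f j) T.hom =
      v.1 ≫ pullback.snd (f i) T.hom := by
  simp [canonicalDDFam]

section glue

variable (D : SchDDFam f) (T : Over S) (R₀ : Sieve T.left)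
  (x : Presieve.FamilyOfElements (FD D) ((Sieve.overEquiv T).symm R₀).arrows)

/-- The value of the family on the tautological lift. -/
noncomputable def M {T₁ : Scheme.{u}} (s : T₁ ⟶ T.left) (hs : R₀ s) {i : ι} (z : T₁ ⟶ X i)
    (hz : z ≫ f i = s ≫ T.hom) : Lifts (D.obj i) z :=
  SchDDFam.Hom.push (x (Over.homMk s rfl : Over.mk (s ≫ T.hom) ⟶ T) hs).down
    (secLift z (s ≫ T.hom) hz)

lemma M_congr {T₁ : Scheme.{u}} (s s' : T₁ ⟶ T.left) (hss : s = s') (hs : R₀ s) (hs' : R₀ s')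
    {i : ι} (z z' : T₁ ⟶ X i) (hzz : z = z') (hz : z ≫ f i = s ≫ T.hom)
    (hz' : z' ≫ f i = s' ≫ T.hom) : (M D T R₀ x s hs z hz).1 = (M D T R₀ x s' hs' z' hz').1 := by
  subst hss hzz
  rfl

lemma x_congr {Y : Over S} (r r' : Y ⟶ T) (h : r = r') (hr : (Sieve.overEquiv T).symm R₀ r)
    (hr' : (Sieve.overEquiv T).symm R₀ r') : x r hr = x r' hr' := by
  subst h
  rfl

variable {D T R₀ x}

/-- The value of the family at an arbitrary member of the sieve, on an arbitrary lift. -/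
lemma push_x_eq_M (hx : x.SieveCompatible) {Y : Over S} (r : Y ⟶ T)
    (hr : (Sieve.overEquiv T).symm R₀ r) {T₀ : Scheme.{u}} {i : ι} {y : T₀ ⟶ X i}
    (v : Lifts ((canonicalDDFam f Y).obj i) y)
    (hs : R₀ ((v.1 ≫ pullback.snd (f i) Y.hom) ≫ r.left))
    (hz : y ≫ f i = ((v.1 ≫ pullback.snd (f i) Y.hom) ≫ r.left) ≫ T.hom) :
    SchDDFam.Hom.push (x r hr).down v =
      M D T R₀ x ((v.1 ≫ pullback.snd (f i) Y.hom) ≫ r.left) hs y hz := by
  have hk : (v.1 ≫ pullback.snd (f i) Y.hom) ≫ Y.hom =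
      ((v.1 ≫ pullback.snd (f i) Y.hom) ≫ r.left) ≫ T.hom := by
    rw [Category.assoc (v.1 ≫ pullback.snd (f i) Y.hom) r.left T.hom, Over.w r]
  let k : Over.mk (((v.1 ≫ pullback.snd (f i) Y.hom) ≫ r.left) ≫ T.hom) ⟶ Y :=
    Over.homMk (v.1 ≫ pullback.snd (f i) Y.hom) hk
  have hkr : (Over.homMk ((v.1 ≫ pullback.snd (f i) Y.hom) ≫ r.left) rfl :
      Over.mk (((v.1 ≫ pullback.snd (f i) Y.hom) ≫ r.left) ≫ T.hom) ⟶ T) = k ≫ r := by
    apply Over.OverMorphism.ext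
    rfl
  have h1 := hx r k hr
  unfold M
  rw [x_congr D T R₀ x _ _ hkr hs (((Sieve.overEquiv T).symm R₀).downward_closed hr k), h1,
    FD_map_down]
  change SchDDFam.Hom.push (x r hr).down v =
    SchDDFam.Hom.push (x r hr).down (SchDDFam.Hom.push ((toDDFam f).map k) _)
  rw [push_map_secLift v _ hk hz]

lemma M_res (hx : x.SieveCompatible) {T₁ T₂ : Scheme.{u}} (g : T₂ ⟶ T₁) (s : T₁ ⟶ T.left)
    (hs : R₀ s) {i : ι} (z : T₁ ⟶ X i) (hz : z ≫ f i = s ≫ T.hom)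
    (hz' : (g ≫ z) ≫ f i = (g ≫ s) ≫ T.hom) :
    (M D T R₀ x (g ≫ s) (R₀.downward_closed hs g) (g ≫ z) hz').1 =
      g ≫ (M D T R₀ x s hs z hz).1 := by
  have h0 : M D T R₀ x s hs z hz = SchDDFam.Hom.push
      (x (Over.homMk s rfl : Over.mk (s ≫ T.hom) ⟶ T) hs).down (secLift z (s ≫ T.hom) hz) := rfl
  rw [h0]
  have hres := push_res (x (Over.homMk s rfl : Over.mk (s ≫ T.hom) ⟶ T) hs).down g z (g ≫ z) rfl
    (secLift z (s ≫ T.hom) hz)
  have hval : g ≫ (SchDDFam.Hom.push (x (Over.homMk s rfl : Over.mk (s ≫ T.hom) ⟶ T) hs).down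
      (secLift z (s ≫ T.hom) hz)).1 = (Lifts.res g (SchDDFam.Hom.push
        (x (Over.homMk s rfl : Over.mk (s ≫ T.hom) ⟶ T) hs).down (secLift z (s ≫ T.hom) hz))
        rfl).1 := rfl
  rw [hval, ← hres]
  have hs2 : R₀ (((Lifts.res g (secLift z (s ≫ T.hom) hz) rfl).1 ≫
      pullback.snd (f i) (Over.mk (s ≫ T.hom)).hom) ≫
      (Over.homMk s rfl : Over.mk (s ≫ T.hom) ⟶ T).left) := by
    have : ((Lifts.res g (secLift z (s ≫ T.hom) hz) rfl).1 ≫
      pullback.snd (f i) (Over.mk (s ≫ T.hom)).hom) ≫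
      (Over.homMk s rfl : Over.mk (s ≫ T.hom) ⟶ T).left = g ≫ s := by
      simp
    rw [this]
    exact R₀.downward_closed hs g
  have key := push_x_eq_M hx (Over.homMk s rfl : Over.mk (s ≫ T.hom) ⟶ T) hs
    (Lifts.res g (secLift z (s ≫ T.hom) hz) rfl) hs2 (by
      simp only [Lifts.res_val, secLift_val, Over.mk_left, Over.mk_hom, Over.homMk_left,
        Category.assoc, limit.lift_π, PullbackCone.mk_π_app, Category.comp_id]
      simpa using hz')
  rw [key]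
  apply M_congr
  · simp
  · rfl

lemma φ_M {T₁ : Scheme.{u}} (s : T₁ ⟶ T.left) (hs : R₀ s) {i j : ι} (z₀ : T₁ ⟶ X i)
    (z₁ : T₁ ⟶ X j) (h : z₀ ≫ f i = z₁ ≫ f j) (hz₀ : z₀ ≫ f i = s ≫ T.hom)
    (hz₁ : z₁ ≫ f j = s ≫ T.hom) :
    D.φ z₀ z₁ h (M D T R₀ x s hs z₀ hz₀) = M D T R₀ x s hs z₁ hz₁ := by
  unfold M
  rw [comm_push]
  congr 1
  exact canφ_secLift z₀ z₁ _ h hz₀ hz₁

end glue

section glue2

variable {D : SchDDFam f} {T : Over S} {R₀ : Sieve T.left}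
  (hR₀ : R₀ ∈ Scheme.fpqcTopology T.left)
  {x : Presieve.FamilyOfElements (FD D) ((Sieve.overEquiv T).symm R₀).arrows}
  (hx : x.SieveCompatible)

include hR₀ hx in
lemma exists_E {T₀ : Scheme.{u}} {i : ι} (y : T₀ ⟶ X i)
    (v : Lifts ((canonicalDDFam f T).obj i) y) :
    ∃ e : Lifts (D.obj i) y, ∀ ⦃T₁ : Scheme.{u}⦄ (g : T₁ ⟶ T₀)
      (hg : R₀ (g ≫ v.1 ≫ pullback.snd (f i) T.hom))
      (hz : (g ≫ y) ≫ f i = (g ≫ v.1 ≫ pullback.snd (f i) T.hom) ≫ T.hom),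
      g ≫ e.1 = (M D T R₀ x (g ≫ v.1 ≫ pullback.snd (f i) T.hom) hg (g ≫ y) hz).1 := by
  have hcond : ∀ ⦃T₁ : Scheme.{u}⦄ (g : T₁ ⟶ T₀),
      (g ≫ y) ≫ f i = (g ≫ v.1 ≫ pullback.snd (f i) T.hom) ≫ T.hom := by
    intro T₁ g
    rw [Category.assoc, lift_cond v, Category.assoc, Category.assoc, Category.assoc]
  have hcov : R₀.pullback (v.1 ≫ pullback.snd (f i) T.hom) ∈ Scheme.fpqcTopology T₀ :=
    Scheme.fpqcTopology.pullback_stable _ hR₀
  obtain ⟨a, ha⟩ := exists_glue (W := (D.obj i).left)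
    (R₀.pullback (v.1 ≫ pullback.snd (f i) T.hom)) hcov
    (fun T₁ g hg => (M D T R₀ x (g ≫ v.1 ≫ pullback.snd (f i) T.hom) hg (g ≫ y) (hcond g)).1)
    (by
      intro T₁ T₂ g g' hg
      have h1 := M_res hx g' (g ≫ v.1 ≫ pullback.snd (f i) T.hom) hg (g ≫ y) (hcond g)
        (by rw [Category.assoc, hcond g]; simp only [Category.assoc])
      rw [← h1]
      apply M_congr
      · rw [Category.assoc]
      · rw [Category.assoc])
  have hover : a ≫ (D.obj i).hom = y := by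
    apply hom_ext_of_cover _ hcov
    intro T₁ g hg
    rw [← Category.assoc, ha g hg]
    exact (M D T R₀ x (g ≫ v.1 ≫ pullback.snd (f i) T.hom) hg (g ≫ y) (hcond g)).2
  exact ⟨⟨a, hover⟩, fun T₁ g hg hz => ha g hg⟩

/-- The glued value on a lift. -/
noncomputable def E {T₀ : Scheme.{u}} {i : ι} (y : T₀ ⟶ X i)
    (v : Lifts ((canonicalDDFam f T).obj i) y) : Lifts (D.obj i) y :=
  (exists_E hR₀ hx y v).choose

lemma E_spec {T₀ : Scheme.{u}} {i : ι} (y : T₀ ⟶ X i)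
    (v : Lifts ((canonicalDDFam f T).obj i) y) ⦃T₁ : Scheme.{u}⦄ (g : T₁ ⟶ T₀)
    (hg : R₀ (g ≫ v.1 ≫ pullback.snd (f i) T.hom))
    (hz : (g ≫ y) ≫ f i = (g ≫ v.1 ≫ pullback.snd (f i) T.hom) ≫ T.hom) :
    g ≫ (E hR₀ hx y v).1 = (M D T R₀ x (g ≫ v.1 ≫ pullback.snd (f i) T.hom) hg (g ≫ y) hz).1 :=
  (exists_E hR₀ hx y v).choose_spec g hg hz

lemma cond_aux {T₀ T₁ : Scheme.{u}} {i : ι} (y : T₀ ⟶ X i)
    (v : Lifts ((canonicalDDFam f T).obj i) y) (g : T₁ ⟶ T₀) :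
    (g ≫ y) ≫ f i = (g ≫ v.1 ≫ pullback.snd (f i) T.hom) ≫ T.hom := by
  rw [Category.assoc, lift_cond v, Category.assoc, Category.assoc, Category.assoc]

include hR₀ in
lemma cov_aux {T₀ : Scheme.{u}} {i : ι} (y : T₀ ⟶ X i)
    (v : Lifts ((canonicalDDFam f T).obj i) y) :
    R₀.pullback (v.1 ≫ pullback.snd (f i) T.hom) ∈ Scheme.fpqcTopology T₀ :=
  Scheme.fpqcTopology.pullback_stable _ hR₀

lemma E_nat ⦃T₀ T₀' : Scheme.{u}⦄ (h : T₀' ⟶ T₀) ⦃i : ι⦄ (y : T₀ ⟶ X i) (y' : T₀' ⟶ X i)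
    (hy : h ≫ y = y') (v : Lifts ((canonicalDDFam f T).obj i) y) :
    (E hR₀ hx y' (Lifts.res h v hy)).1 = h ≫ (E hR₀ hx y v).1 := by
  subst hy
  apply hom_ext_of_cover _ (cov_aux hR₀ (h ≫ y) (Lifts.res h v rfl))
  intro T₁ g hg
  have hg1 : R₀ (g ≫ (Lifts.res h v rfl).1 ≫ pullback.snd (f i) T.hom) := hg
  have hg2 : R₀ ((g ≫ h) ≫ v.1 ≫ pullback.snd (f i) T.hom) := by
    have e : (g ≫ h) ≫ v.1 ≫ pullback.snd (f i) T.hom =
        g ≫ (Lifts.res h v rfl).1 ≫ pullback.snd (f i) T.hom := by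
      simp
    rw [e]
    exact hg1
  have e1 := E_spec hR₀ hx (h ≫ y) (Lifts.res h v rfl) g hg1 (cond_aux _ _ g)
  have e2 := E_spec hR₀ hx y v (g ≫ h) hg2 (cond_aux _ _ (g ≫ h))
  rw [e1, ← Category.assoc g h (E hR₀ hx y v).1, e2]
  apply M_congr
  · simp
  · simp

lemma E_comm ⦃T₀ : Scheme.{u}⦄ ⦃i j : ι⦄ (y₀ : T₀ ⟶ X i) (y₁ : T₀ ⟶ X j)
    (h : y₀ ≫ f i = y₁ ≫ f j) (v : Lifts ((canonicalDDFam f T).obj i) y₀) :
    D.φ y₀ y₁ h (E hR₀ hx y₀ v) = E hR₀ hx y₁ ((canonicalDDFam f T).φ y₀ y₁ h v) := by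
  apply lifts_ext_of_cover _ (cov_aux hR₀ y₀ v)
  intro T₁ g hg
  have hg0 : R₀ (g ≫ v.1 ≫ pullback.snd (f i) T.hom) := hg
  have hg1 : R₀ (g ≫ ((canonicalDDFam f T).φ y₀ y₁ h v).1 ≫ pullback.snd (f j) T.hom) := by
    rw [canφ_snd]
    exact hg0
  have hh' : (g ≫ y₀) ≫ f i = (g ≫ y₁) ≫ f j := by
    rw [Category.assoc, Category.assoc, h]
  rw [← φ_res D g y₀ y₁ h (g ≫ y₀) (g ≫ y₁) rfl rfl hh' (E hR₀ hx y₀ v)]
  have e0 : Lifts.res g (E hR₀ hx y₀ v) rfl =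
      M D T R₀ x (g ≫ v.1 ≫ pullback.snd (f i) T.hom) hg0 (g ≫ y₀) (cond_aux _ _ g) :=
    Subtype.ext (E_spec hR₀ hx y₀ v g hg0 (cond_aux _ _ g))
  have e1 : Lifts.res g (E hR₀ hx y₁ ((canonicalDDFam f T).φ y₀ y₁ h v)) rfl =
      M D T R₀ x (g ≫ ((canonicalDDFam f T).φ y₀ y₁ h v).1 ≫ pullback.snd (f j) T.hom) hg1
        (g ≫ y₁) (cond_aux _ _ g) :=
    Subtype.ext (E_spec hR₀ hx y₁ _ g hg1 (cond_aux _ _ g))
  rw [e0, e1, φ_M (g ≫ v.1 ≫ pullback.snd (f i) T.hom) hg0 (g ≫ y₀) (g ≫ y₁) hh' _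
    (by rw [← hh']; exact cond_aux y₀ v g)]
  apply Subtype.ext
  apply M_congr
  · rw [canφ_snd]
  · rfl

/-- The amalgamation. -/
noncomputable def amalg : (toDDFam f).obj T ⟶ D :=
  homMk (canonicalDDFam f T) D (fun _ _ y v => E hR₀ hx y v)
    (fun _ _ h _ y y' hy v => E_nat hR₀ hx h y y' hy v)
    (fun _ _ _ y₀ y₁ h v => E_comm hR₀ hx y₀ y₁ h v)

lemma push_amalg {T₀ : Scheme.{u}} {i : ι} (y : T₀ ⟶ X i)
    (v : Lifts ((canonicalDDFam f T).obj i) y) :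
    SchDDFam.Hom.push (amalg hR₀ hx) v = E hR₀ hx y v :=
  Subtype.ext (homMk_spec (canonicalDDFam f T) D (fun _ _ y v => E hR₀ hx y v)
    (fun _ _ h _ y y' hy v => E_nat hR₀ hx h y y' hy v)
    (fun _ _ _ y₀ y₁ h v => E_comm hR₀ hx y₀ y₁ h v) y v)

end glue2

/-- **The presheaf attached to a descent datum satisfies the sheaf condition for every fpqc
covering sieve.** -/
theorem isSheafFor_FD (D : SchDDFam f) (T : Over S) (R₀ : Sieve T.left)
    (hR₀ : R₀ ∈ Scheme.fpqcTopology T.left) :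
    Presieve.IsSheafFor (FD D) ((Sieve.overEquiv T).symm R₀).arrows := by
  intro x hx0
  have hx : x.SieveCompatible := (Presieve.compatible_iff_sieveCompatible x).1 hx0
  have hval : x.IsAmalgamation ⟨amalg hR₀ hx⟩ := by
    intro Y r hr
    apply ULift.ext
    rw [FD_map_down]
    apply hom_ext_lifts
    intro T₀ i y v
    change (SchDDFam.Hom.push ((toDDFam f).map r ≫ amalg hR₀ hx) v).1 =
      (SchDDFam.Hom.push (x r hr).down v).1
    congr 1
    change SchDDFam.Hom.push (amalg hR₀ hx) (SchDDFam.Hom.push ((toDDFam f).map r) v) = _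
    rw [push_amalg]
    have hsnd : (SchDDFam.Hom.push ((toDDFam f).map r) v).1 ≫ pullback.snd (f i) T.hom =
        (v.1 ≫ pullback.snd (f i) Y.hom) ≫ r.left := by
      simp [SchDDFam.Hom.push, toDDFam, canonicalDDFam]
    have hs : R₀ ((v.1 ≫ pullback.snd (f i) Y.hom) ≫ r.left) :=
      R₀.downward_closed hr _
    have hz : y ≫ f i = ((v.1 ≫ pullback.snd (f i) Y.hom) ≫ r.left) ≫ T.hom := by
      rw [lift_cond v, Category.assoc _ r.left, Over.w r]
    rw [push_x_eq_M hx r hr v hs hz]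
    apply Subtype.ext
    have hs1 : R₀ (𝟙 T₀ ≫ (SchDDFam.Hom.push ((toDDFam f).map r) v).1 ≫
        pullback.snd (f i) T.hom) := by
      rw [Category.id_comp, hsnd]
      exact hs
    have h3 := E_spec hR₀ hx y (SchDDFam.Hom.push ((toDDFam f).map r) v) (𝟙 T₀) hs1
      (cond_aux _ _ _)
    rw [Category.id_comp] at h3
    rw [h3]
    apply M_congr
    · rw [Category.id_comp, hsnd]
    · rw [Category.id_comp]
  refine ⟨⟨amalg hR₀ hx⟩, hval, ?_⟩
  intro b hb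
  apply ULift.ext
  apply hom_ext_lifts
  intro T₀ i y v
  change (SchDDFam.Hom.push b.down v).1 = (SchDDFam.Hom.push (amalg hR₀ hx) v).1
  congr 1
  apply lifts_ext_of_cover _ (cov_aux hR₀ y v)
  intro T₁ g hg
  have hg0 : ((Sieve.overEquiv T).symm R₀) (Over.homMk (g ≫ v.1 ≫ pullback.snd (f i) T.hom) rfl :
      Over.mk ((g ≫ v.1 ≫ pullback.snd (f i) T.hom) ≫ T.hom) ⟶ T) := hg
  rw [← push_res, ← push_res]
  have hv : Lifts.res g v rfl = SchDDFam.Hom.push ((toDDFam f).map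
      (Over.homMk (g ≫ v.1 ≫ pullback.snd (f i) T.hom) rfl :
        Over.mk ((g ≫ v.1 ≫ pullback.snd (f i) T.hom) ≫ T.hom) ⟶ T))
      (secLift (g ≫ y) _ (cond_aux y v g)) := by
    have h4 := push_map_secLift (Lifts.res g v rfl)
      ((g ≫ v.1 ≫ pullback.snd (f i) T.hom) ≫ T.hom) (by simp) (cond_aux y v g)
    rw [← h4]
    congr 2
  rw [hv]
  have hb'' := congrArg ULift.down (hb _ hg0)
  rw [FD_map_down] at hb''
  have ham := congrArg ULift.down (hval _ hg0)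
  rw [FD_map_down] at ham
  change SchDDFam.Hom.push ((toDDFam f).map _ ≫ b.down) _ =
    SchDDFam.Hom.push ((toDDFam f).map _ ≫ amalg hR₀ hx) _
  rw [hb'', ham]

open _root_.AlgSp in
theorem isSheaf_FD (D : SchDDFam f) : Presheaf.IsSheaf (J S) (FD D) := by
  rw [isSheaf_iff_isSheaf_of_type]
  intro T R hR
  have h1 : Sieve.overEquiv T R ∈ Scheme.fpqcTopology T.left :=
    Scheme.fppfTopology_le_fpqcTopology _ ((GrothendieckTopology.mem_over_iff _ R).1 hR)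
  have h2 := isSheafFor_FD D T (Sieve.overEquiv T R) h1
  rwa [OrderIso.symm_apply_apply] at h2

open _root_.AlgSp in
/-- The fppf sheaf attached to a descent datum. -/
noncomputable def FDSh (D : SchDDFam f) : Sp S := ⟨FD D, isSheaf_FD D⟩

lemma generate_singleton_eq {T T' : Over S} (c : T' ⟶ T) :
    Sieve.generate (Presieve.singleton c) =
      (Sieve.overEquiv T).symm (Sieve.generate (Presieve.singleton c.left)) := by
  ext Y₀ g
  rw [Sieve.overEquiv_symm_iff]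
  constructor
  · rintro ⟨W, k, _, ⟨⟩, rfl⟩
    exact ⟨_, k.left, c.left, ⟨⟩, rfl⟩
  · rintro ⟨W, k₀, _, ⟨⟩, hk⟩
    have hk' : k₀ ≫ T'.hom = Y₀.hom := by
      rw [← Over.w c, ← Category.assoc, hk, Over.w]
    exact ⟨T', Over.homMk k₀ hk', c, ⟨⟩, Over.OverMorphism.ext hk⟩

/-- The sheaf attached to a descent datum satisfies fpqc descent. -/
theorem isFpqcSheaf_FDSh (D : SchDDFam f) : IsFpqcSheaf (FDSh D) := by
  intro T T' c h1 h2 h3
  change Presieve.IsSheafFor (FD D) (Presieve.singleton c)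
  rw [Presieve.isSheafFor_iff_generate, generate_singleton_eq]
  exact isSheafFor_FD D T _
    (Precoverage.generate_mem_toGrothendieck (Scheme.Hom.singleton_mem_fpqcPrecoverage c.left))

end Groth.Agent.H3.DescSh
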